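import Groth.Agent.DivDescLib.Alg
import Groth.Agent.DivisorialLib.Basic
import Groth.Agent.InvExt.Cartier
import Groth.Agent.BlowExistsLib.Chart
import Groth.Agent.S5090
import Mathlib.AlgebraicGeometry.Morphisms.UniversallyOpen
import Mathlib.RingTheory.Flat.FaithfullyFlat.Algebra

/-!
# Descending effective Cartier divisors along flat morphisms
-/

set_option autoImplicit false
set_option backward.isDefEq.respectTransparency false
set_option linter.style.haveILetI false

universe u

open CategoryTheory CategoryTheory.Limits AlgebraicGeometry TopologicalSpace IsLocalRing IntMult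

noncomputable section

namespace Groth.Agent.DivDescLib

variable {X Y Z : Scheme.{u}} (f : X ⟶ Y)

/-- The map from the local ring at `y` to the local ring at a point over a generisation of `y`. -/
def φ {x : X} {y : Y} (h : f x ⤳ y) : Y.presheaf.stalk y →+* X.presheaf.stalk x :=
  (Y.presheaf.stalkSpecializes h ≫ f.stalkMap x).hom

theorem φ_spec {x : X} {y y' : Y} (hy : y' ⤳ y) (h : f x ⤳ y') (a : Y.presheaf.stalk y) :
    φ f h (Y.presheaf.stalkSpecializes hy a) = φ f (h.trans hy) a := by
  show (Y.presheaf.stalkSpecializes hy ≫ Y.presheaf.stalkSpecializes h ≫ f.stalkMap x) a = _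
  rw [TopCat.Presheaf.stalkSpecializes_comp_assoc]
  rfl

theorem φ_gen {x x' : X} {y : Y} (hx : x' ⤳ x) (h : f x ⤳ y) (a : Y.presheaf.stalk y) :
    φ f ((hx.map f.continuous).trans h) a = X.presheaf.stalkSpecializes hx (φ f h a) := by
  show _ = (Y.presheaf.stalkSpecializes h ≫ f.stalkMap x ≫ X.presheaf.stalkSpecializes hx) a
  rw [← Scheme.Hom.stalkSpecializes_stalkMap f x' x hx, TopCat.Presheaf.stalkSpecializes_comp_assoc]
  rfl

theorem φ_refl (x : X) : φ f (specializes_refl (f x)) = (f.stalkMap x).hom := by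
  rw [φ, TopCat.Presheaf.stalkSpecializes_refl, Category.id_comp]

theorem φ_isLocalHom {x : X} {y : Y} (h : f x ⤳ y) (e : f x = y) : IsLocalHom (φ f h) := by
  subst e
  rw [φ_refl]
  infer_instance

theorem φ_flat [Flat f] {x : X} {y : Y} (h : f x ⤳ y) (e : f x = y) : (φ f h).Flat := by
  subst e
  rw [φ_refl]
  exact Flat.stalkMap f x

theorem φ_faithfullyFlat [Flat f] {x : X} {y : Y} (h : f x ⤳ y) (e : f x = y) :
    letI := (φ f h).toAlgebra; Module.FaithfullyFlat (Y.presheaf.stalk y) (X.presheaf.stalk x) := by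
  letI := (φ f h).toAlgebra
  haveI : Module.Flat (Y.presheaf.stalk y) (X.presheaf.stalk x) := φ_flat f h e
  haveI : IsLocalHom (algebraMap (Y.presheaf.stalk y) (X.presheaf.stalk x)) := φ_isLocalHom f h e
  exact Module.FaithfullyFlat.of_flat_of_isLocalHom

theorem φ_injective [Flat f] {x : X} {y : Y} (h : f x ⤳ y) (e : f x = y) : Function.Injective (φ f h) := by
  letI := (φ f h).toAlgebra
  haveI := φ_faithfullyFlat f h e
  exact FaithfulSMul.algebraMap_injective (Y.presheaf.stalk y) (X.presheaf.stalk x)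

theorem span_eq_of_φ [Flat f] {x : X} {y : Y} (h : f x ⤳ y) (e : f x = y) {a b : Y.presheaf.stalk y}
    (hab : Ideal.span {φ f h a} = Ideal.span {φ f h b}) : Ideal.span {a} = Ideal.span {b} := by
  letI := (φ f h).toAlgebra
  haveI := φ_faithfullyFlat f h e
  have hm : ∀ c : Y.presheaf.stalk y, (Ideal.span {c}).map (algebraMap _ (X.presheaf.stalk x)) = Ideal.span {φ f h c} := fun c => by
    rw [Ideal.map_span, Set.image_singleton]; rfl
  rw [← Ideal.comap_map_eq_self_of_faithfullyFlat (B := X.presheaf.stalk x) (Ideal.span {a}),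
    ← Ideal.comap_map_eq_self_of_faithfullyFlat (B := X.presheaf.stalk x) (Ideal.span {b}), hm, hm, hab]

theorem span_map_eq {R S : Type u} [CommRing R] [CommRing S] (ψ : R →+* S) {a b : R}
    (h : Ideal.span {a} = Ideal.span {b}) : Ideal.span {ψ a} = Ideal.span {ψ b} := by
  simpa [Ideal.map_span] using congrArg (Ideal.map ψ) h

variable (J : X.IdealSheafData)

/-- `a` generates the pullback of a divisor at every point over a generisation of `y`. -/
def Gen (y : Y) (a : Y.presheaf.stalk y) : Prop :=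
  a ∈ nonZeroDivisors (Y.presheaf.stalk y) ∧ ∀ (x : X) (h : f x ⤳ y), stalkIdeal J x = Ideal.span {φ f h a}

theorem stalkIdeal_gen {x x' : X} (hx : x' ⤳ x) {t : X.presheaf.stalk x} (ht : stalkIdeal J x = Ideal.span {t}) :
    stalkIdeal J x' = Ideal.span {X.presheaf.stalkSpecializes hx t} := by
  rw [← DivisorialLib.map_stalkSpecializes J hx, ht, Ideal.map_span, Set.image_singleton]

theorem mem_nzd_of_φ [Flat f] (hJ : BlowUp.IsEffCartierIdeal J) {x : X} {y : Y} (h : f x ⤳ y) (e : f x = y)
    {a : Y.presheaf.stalk y} (ha : stalkIdeal J x = Ideal.span {φ f h a}) : a ∈ nonZeroDivisors (Y.presheaf.stalk y) := by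
  refine mem_nonZeroDivisors_iff_right.2 fun z hz => φ_injective f h e ?_
  rw [map_zero]
  refine (mem_nonZeroDivisors_iff_right.1 (BlowExistsLib.generator_mem_nonZeroDivisors hJ x ha)) _ ?_
  rw [← map_mul, hz, map_zero]

variable {f J}

theorem Gen.unique [Flat f] [Surjective f] {y : Y} {a b : Y.presheaf.stalk y} (ha : Gen f J y a) (hb : Gen f J y b) :
    Ideal.span {a} = Ideal.span {b} := by
  obtain ⟨x, hx⟩ := f.surjective y
  have h : f x ⤳ y := specializes_of_eq hx
  exact span_eq_of_φ f h hx ((ha.2 x h).symm.trans (hb.2 x h))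

theorem Gen.spec [Flat f] [Surjective f] (hJ : BlowUp.IsEffCartierIdeal J) {y y' : Y} {a : Y.presheaf.stalk y}
    (ha : Gen f J y a) (h : y' ⤳ y) : Gen f J y' (Y.presheaf.stalkSpecializes h a) := by
  obtain ⟨x, hx⟩ := f.surjective y'
  refine ⟨mem_nzd_of_φ f J hJ (specializes_of_eq hx) hx ?_, fun x hx => ?_⟩
  · rw [φ_spec]; exact ha.2 x _
  · rw [φ_spec]; exact ha.2 x _

theorem Gen.congr [Flat f] [Surjective f] (hJ : BlowUp.IsEffCartierIdeal J) {y : Y} {a b : Y.presheaf.stalk y}
    (ha : Gen f J y a) (h : Ideal.span {a} = Ideal.span {b}) : Gen f J y b := by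
  obtain ⟨x, hx⟩ := f.surjective y
  have h' : ∀ (x : X) (hx : f x ⤳ y), stalkIdeal J x = Ideal.span {φ f hx b} := fun x hx =>
    (ha.2 x hx).trans (span_map_eq _ h)
  exact ⟨mem_nzd_of_φ f J hJ (specializes_of_eq hx) hx (h' _ _), h'⟩

/-- A generator at a point of the fibre agrees with a generator at a generisation. -/
theorem span_spec_eq [Flat f] {y y' : Y} (h : y' ⤳ y) {a : Y.presheaf.stalk y} {x₀ : X} (e : f x₀ = y)
    (ha : stalkIdeal J x₀ = Ideal.span {φ f (specializes_of_eq e) a}) {b : Y.presheaf.stalk y'}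
    (hb : Gen f J y' b) : Ideal.span {Y.presheaf.stalkSpecializes h a} = Ideal.span {b} := by
  obtain ⟨x₁, hx₁, e₁⟩ := Flat.generalizingMap f (show y' ⤳ f x₀ from h.trans (specializes_of_eq e.symm))
  refine span_eq_of_φ f (specializes_of_eq e₁) e₁ ((?_ : _ = stalkIdeal J x₁).trans (hb.2 x₁ _))
  rw [stalkIdeal_gen J hx₁ ha, ← φ_gen, φ_spec]

/-- A generator on the fibre over `y` generates everywhere above the generisations of `y`, given generators there. -/
theorem gen_of_fibre [Flat f] [Surjective f] (hJ : BlowUp.IsEffCartierIdeal J) {y : Y} {a : Y.presheaf.stalk y}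
    (ha : ∀ (x : X) (e : f x = y), stalkIdeal J x = Ideal.span {φ f (specializes_of_eq e) a})
    (hP : ∀ y' : Y, y' ⤳ y → y' ≠ y → ∃ b, Gen f J y' b) : Gen f J y a := by
  obtain ⟨x₀, e₀⟩ := f.surjective y
  refine ⟨mem_nzd_of_φ f J hJ (specializes_of_eq e₀) e₀ (ha x₀ e₀), fun x h => ?_⟩
  by_cases e : f x = y
  · exact ha x e
  obtain ⟨b, hb⟩ := hP (f x) h e
  rw [hb.2 x (specializes_refl _), ← φ_spec f h (specializes_refl _) a]
  exact span_map_eq _ (span_spec_eq h e₀ (ha x₀ e₀) hb).symm

/-- Points above correspond to primes. -/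
theorem exists_generisation (x : X) (q : Ideal (X.presheaf.stalk x)) [q.IsPrime] :
    ∃ (x' : X) (hx : x' ⤳ x), (maximalIdeal (X.presheaf.stalk x')).comap (X.presheaf.stalkSpecializes hx).hom = q := by
  obtain ⟨_, ⟨U : X.Opens, hU, rfl⟩, hxU, -⟩ := X.isBasis_affineOpens.exists_subset_of_mem_open (Set.mem_univ x) isOpen_univ
  letI : Algebra Γ(X, U) (X.presheaf.stalk x) := TopCat.Presheaf.algebra_section_stalk X.presheaf ⟨x, hxU⟩
  haveI := hU.isLocalization_stalk ⟨x, hxU⟩
  obtain ⟨ζ, hζ, hζP⟩ := InvExt.exists_point_primeIdealOf hU (q.comap (algebraMap Γ(X, U) (X.presheaf.stalk x))) inferInstance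
  have hsp : ζ ⤳ x := InvExt.specializes_of_primeIdealOf_le hU hζ hxU (by
    rw [hζP, ← IsLocalization.AtPrime.comap_maximalIdeal (X.presheaf.stalk x) (hU.primeIdealOf ⟨x, hxU⟩).asIdeal]
    exact Ideal.comap_mono (IsLocalRing.le_maximalIdeal (Ideal.IsPrime.ne_top inferInstance)))
  letI : Algebra Γ(X, U) (X.presheaf.stalk ζ) := TopCat.Presheaf.algebra_section_stalk X.presheaf ⟨ζ, hζ⟩
  haveI := hU.isLocalization_stalk ⟨ζ, hζ⟩
  refine ⟨ζ, hsp, ?_⟩
  have h1 : ((maximalIdeal (X.presheaf.stalk ζ)).comap (X.presheaf.stalkSpecializes hsp).hom).comap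
      (algebraMap Γ(X, U) (X.presheaf.stalk x)) = q.comap (algebraMap Γ(X, U) (X.presheaf.stalk x)) := by
    rw [← hζP, Ideal.comap_comap, ← IsLocalization.AtPrime.comap_maximalIdeal (X.presheaf.stalk ζ) (hU.primeIdealOf ⟨ζ, hζ⟩).asIdeal]
    congr 1
    ext a
    exact X.presheaf.germ_stalkSpecializes_apply hxU hsp a
  exact ((IsLocalization.map_comap (hU.primeIdealOf ⟨x, hxU⟩).asIdeal.primeCompl _ _).symm.trans
    (congrArg (Ideal.map (algebraMap Γ(X, U) (X.presheaf.stalk x))) h1)).trans (IsLocalization.map_comap (hU.primeIdealOf ⟨x, hxU⟩).asIdeal.primeCompl _ _)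

theorem specializes_of_comap_le {y y₁ y₂ : Y} (h₁ : y₁ ⤳ y) (h₂ : y₂ ⤳ y)
    (h : (maximalIdeal (Y.presheaf.stalk y₁)).comap (Y.presheaf.stalkSpecializes h₁).hom ≤
      (maximalIdeal (Y.presheaf.stalk y₂)).comap (Y.presheaf.stalkSpecializes h₂).hom) : y₁ ⤳ y₂ := by
  obtain ⟨_, ⟨U : Y.Opens, hU, rfl⟩, hyU, -⟩ := Y.isBasis_affineOpens.exists_subset_of_mem_open (Set.mem_univ y) isOpen_univ
  refine InvExt.specializes_of_primeIdealOf_le hU (h₁.mem_open U.2 hyU) (h₂.mem_open U.2 hyU) fun a ha => ?_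
  by_contra ha'
  have h2 : Y.presheaf.germ U y hyU a ∉ (maximalIdeal (Y.presheaf.stalk y₂)).comap (Y.presheaf.stalkSpecializes h₂).hom := fun hm => by
    rw [Ideal.mem_comap] at hm
    erw [Y.presheaf.germ_stalkSpecializes_apply hyU h₂ a] at hm
    exact (mem_maximalIdeal _).1 hm ((Y.mem_basicOpen a y₂ _).1 ((InvExt.mem_basicOpen_iff_not_mem hU y₂ _ a).2 ha'))
  refine h2 (h (Ideal.mem_comap.2 ?_))
  erw [Y.presheaf.germ_stalkSpecializes_apply hyU h₁ a]
  exact (mem_maximalIdeal _).2 fun hu => (InvExt.mem_basicOpen_iff_not_mem hU y₁ _ a).1 ((Y.mem_basicOpen a y₁ _).2 hu) ha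

/-- The inductive step in depth at least two. -/
theorem exists_gen_of_two_le_depth [IsLocallyNoetherian Y] [Flat f] [Surjective f] (hJ : BlowUp.IsEffCartierIdeal J)
    {y : Y} (hd : (2 : ℕ∞) ≤ LocCoh.depth (Y.presheaf.stalk y) (Y.presheaf.stalk y))
    (hP : ∀ y' : Y, y' ⤳ y → y' ≠ y → ∃ b, Gen f J y' b) : ∃ a, Gen f J y a := by
  classical
  have hone : ∀ (x : X) (e : f x = y), ∃ a, stalkIdeal J x = Ideal.span {φ f (specializes_of_eq e) a} := by
    intro x e
    obtain ⟨t, htn, ht⟩ := BlowExistsLib.exists_stalk_generator hJ x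
    set h : f x ⤳ y := specializes_of_eq e
    letI := (φ f h).toAlgebra
    haveI : Module.Flat (Y.presheaf.stalk y) (X.presheaf.stalk x) := φ_flat f h e
    obtain ⟨a, ha⟩ := exists_generator hd htn fun q hq hqm => by
      haveI := hq
      obtain ⟨x', hx, hxq⟩ := exists_generisation x q
      have hy' : f x' ⤳ y := (hx.map f.continuous).trans h
      have hne : f x' ≠ y := fun e' => hqm (Ideal.map_le_iff_le_comap.2 fun c hc => by
        rw [← hxq, Ideal.mem_comap, Ideal.mem_comap]
        show X.presheaf.stalkSpecializes hx (φ f h c) ∈ _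
        rw [← φ_gen]
        haveI := φ_isLocalHom f hy' e'
        exact map_nonunit (φ f hy') c hc)
      obtain ⟨b, hb⟩ := hP (f x') hy' hne
      letI := (Y.presheaf.stalkSpecializes hy').hom.toAlgebra
      haveI := S5090.isLocalization_stalkSpecializes hy'
      let p := (maximalIdeal (Y.presheaf.stalk (f x'))).comap (Y.presheaf.stalkSpecializes hy').hom
      obtain ⟨⟨a₀, w⟩, hw⟩ := IsLocalization.surj p.primeCompl b
      have hspan : Ideal.span {Y.presheaf.stalkSpecializes hy' a₀} = Ideal.span {b} := by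
        change b * Y.presheaf.stalkSpecializes hy' w.1 = Y.presheaf.stalkSpecializes hy' a₀ at hw
        rw [← hw]
        exact Ideal.span_singleton_mul_right_unit (IsLocalization.map_units (Y.presheaf.stalk (f x')) w) b
      let C : Ideal (X.presheaf.stalk x) :=
        Submodule.comap (LinearMap.toSpanSingleton _ (X.presheaf.stalk x) (φ f h a₀)) (Ideal.span {t})
      have hmeet : ∃ s₀ ∈ p.primeCompl, φ f h s₀ ∈ C := by
        by_contra hne'
        push Not at hne'
        obtain ⟨q', hq', hCq', hdisj⟩ := Ideal.exists_le_prime_disjoint C (p.primeCompl.map (φ f h : Y.presheaf.stalk y →* X.presheaf.stalk x))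
          (Set.disjoint_left.2 fun r hr hr' => by obtain ⟨s₀, hs₀, rfl⟩ := hr'; exact hne' s₀ hs₀ hr)
        obtain ⟨x'', hx'', hxq'⟩ := exists_generisation x q'
        have hy'' : f x'' ⤳ f x' := by
          refine specializes_of_comap_le ((hx''.map f.continuous).trans h) hy' fun c hc => ?_
          by_contra hcp
          refine Set.disjoint_left.1 hdisj ?_ ⟨c, hcp, rfl⟩
          rw [SetLike.mem_coe, ← hxq', Ideal.mem_comap]
          show X.presheaf.stalkSpecializes hx'' (φ f h c) ∈ _
          rw [← φ_gen, φ]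
          exact map_nonunit (f.stalkMap x'').hom _ hc
        have h1 : X.presheaf.stalkSpecializes hx'' (φ f h a₀) ∈ Ideal.span {X.presheaf.stalkSpecializes hx'' t} := by
          rw [← stalkIdeal_gen J hx'' ht, hb.2 x'' hy'', ← φ_gen, ← φ_spec f hy' hy'', ← span_map_eq (φ f hy'') hspan]
          exact Ideal.mem_span_singleton_self _
        letI := (X.presheaf.stalkSpecializes hx'').hom.toAlgebra
        haveI := S5090.isLocalization_stalkSpecializes hx''
        rw [← Set.image_singleton, ← Ideal.map_span] at h1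
        obtain ⟨s, hs, hst⟩ := (IsLocalization.algebraMap_mem_map_algebraMap_iff
          ((maximalIdeal (X.presheaf.stalk x'')).comap (X.presheaf.stalkSpecializes hx'').hom).primeCompl
          (X.presheaf.stalk x'') (Ideal.span {t}) (φ f h a₀)).1 h1
        exact hs (hxq'.symm ▸ hCq' hst)
      obtain ⟨s₀, hs₀, hsC⟩ := hmeet
      have ha₁ : s₀ * a₀ ∈ (Ideal.span {t}).comap (φ f h) := by
        rw [Ideal.mem_comap, map_mul]
        exact hsC
      have h2 : stalkIdeal J x' = Ideal.span {X.presheaf.stalkSpecializes hx (φ f h (s₀ * a₀))} := by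
        rw [hb.2 x' (specializes_refl _), ← φ_gen, ← φ_spec f hy' (specializes_refl _)]
        refine span_map_eq _ ?_
        rw [map_mul, mul_comm]
        exact hspan.symm.trans (Ideal.span_singleton_mul_right_unit
          (IsLocalization.map_units (Y.presheaf.stalk (f x')) (⟨s₀, hs₀⟩ : p.primeCompl)) _).symm
      have h3 : X.presheaf.stalkSpecializes hx t ∈ Ideal.span {X.presheaf.stalkSpecializes hx (φ f h (s₀ * a₀))} := by
        rw [← h2, stalkIdeal_gen J hx ht]
        exact Ideal.mem_span_singleton_self _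
      letI := (X.presheaf.stalkSpecializes hx).hom.toAlgebra
      haveI := S5090.isLocalization_stalkSpecializes hx
      rw [← Set.image_singleton, ← Ideal.map_span] at h3
      obtain ⟨s, hs, hst⟩ := (IsLocalization.algebraMap_mem_map_algebraMap_iff
        ((maximalIdeal (X.presheaf.stalk x')).comap (X.presheaf.stalkSpecializes hx).hom).primeCompl
        (X.presheaf.stalk x') (Ideal.span {φ f h (s₀ * a₀)}) t).1 h3
      exact ⟨s, hxq ▸ hs, (Ideal.span_singleton_le_iff_mem _).2 (Ideal.mem_map_of_mem (φ f h) ha₁) hst⟩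
    exact ⟨a, ht.trans ha.symm⟩
  obtain ⟨x₀, e₀⟩ := f.surjective y
  obtain ⟨a, ha⟩ := hone x₀ e₀
  refine ⟨a, gen_of_fibre hJ (fun x e => ?_) hP⟩
  obtain ⟨a', ha'⟩ := hone x e
  rw [ha']
  refine span_map_eq _ ?_
  have key : ∀ (a a' : Y.presheaf.stalk y) (x₀ x : X) (e₀ : f x₀ = y) (e : f x = y),
      stalkIdeal J x₀ = Ideal.span {φ f (specializes_of_eq e₀) a} →
      stalkIdeal J x = Ideal.span {φ f (specializes_of_eq e) a'} → a ∣ a' := by
    intro a a' x₀ x e₀ e ha ha'
    refine dvd_of_punctured hd (mem_nzd_of_φ f J hJ _ e₀ ha) fun q hq hqm => ?_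
    haveI := hq
    obtain ⟨y', hy', hyq⟩ := exists_generisation y q
    have hne : y' ≠ y := fun e' => by
      subst e'
      apply hqm
      rw [← hyq, TopCat.Presheaf.stalkSpecializes_refl]
      exact Ideal.comap_id _
    obtain ⟨b, hb⟩ := hP y' hy' hne
    have h1 : Y.presheaf.stalkSpecializes hy' a' ∈ Ideal.span {Y.presheaf.stalkSpecializes hy' a} := by
      rw [(span_spec_eq hy' e₀ ha hb).trans (span_spec_eq hy' e ha' hb).symm]
      exact Ideal.mem_span_singleton_self _
    letI := (Y.presheaf.stalkSpecializes hy').hom.toAlgebra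
    haveI := S5090.isLocalization_stalkSpecializes hy'
    rw [← Set.image_singleton, ← Ideal.map_span] at h1
    obtain ⟨s, hs, hst⟩ := (IsLocalization.algebraMap_mem_map_algebraMap_iff
      ((maximalIdeal (Y.presheaf.stalk y')).comap (Y.presheaf.stalkSpecializes hy').hom).primeCompl
      (Y.presheaf.stalk y') (Ideal.span {a}) a').1 h1
    exact ⟨s, hyq ▸ hs, Ideal.mem_span_singleton.1 hst⟩
  exact le_antisymm (Ideal.span_singleton_le_span_singleton.2 (key a a' x₀ x e₀ e ha ha'))
    (Ideal.span_singleton_le_span_singleton.2 (key a' a x x₀ e e₀ ha' ha))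

/-- Generators exist everywhere as soon as they exist at the points of depth at most one. -/
theorem exists_gen [IsLocallyNoetherian Y] [Flat f] [Surjective f] (hJ : BlowUp.IsEffCartierIdeal J)
    (h : ∀ y : Y, LocCoh.depth (Y.presheaf.stalk y) (Y.presheaf.stalk y) ≤ 1 →
      (∀ y' : Y, y' ⤳ y → y' ≠ y → ∃ b, Gen f J y' b) → ∃ a, Gen f J y a) (y : Y) : ∃ a, Gen f J y a := by
  suffices ∀ (n : ℕ∞) (y : Y), Order.coheight y = n → ∃ a, Gen f J y a from this _ y rfl
  intro n
  induction n using WellFoundedLT.induction with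
  | ind n ih =>
    intro y hy
    have hP : ∀ y' : Y, y' ⤳ y → y' ≠ y → ∃ b, Gen f J y' b := fun y' h1 h2 => by
      refine ih _ ?_ y' rfl
      rw [← hy]
      have hfin : Order.coheight y' < ⊤ := by
        have h3 := ringKrullDim_stalk_eq_coheight y'
        have h4 : ringKrullDim (Y.presheaf.stalk y') < ⊤ := ringKrullDim_lt_top
        rw [h3] at h4
        exact WithBot.coe_lt_coe.1 h4
      exact Order.coheight_strictAnti (lt_of_le_not_ge h1 fun h3 => h2 (Inseparable.eq (Specializes.antisymm h1 h3))) hfin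
    rcases le_or_gt (2 : ℕ∞) (LocCoh.depth (Y.presheaf.stalk y) (Y.presheaf.stalk y)) with hd | hd
    · exact exists_gen_of_two_le_depth hJ hd hP
    · exact h y (Order.le_of_lt_succ (by simpa [← one_add_one_eq_two] using hd)) hP

end Groth.Agent.DivDescLib
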