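import Groth.Agent.DivDescLib.Basic
import Mathlib.AlgebraicGeometry.Morphisms.Flat

/-!
# The descended divisor
-/

set_option autoImplicit false
set_option backward.isDefEq.respectTransparency false
set_option linter.style.haveILetI false

universe u

open CategoryTheory CategoryTheory.Limits AlgebraicGeometry TopologicalSpace IsLocalRing IntMult

noncomputable section

namespace Groth.Agent.DivDescLib

variable {X Y : Scheme.{u}} {f : X ⟶ Y} {J : X.IdealSheafData}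

theorem exists_pow_mul_mem_span {V : Y.Opens} (hV : IsAffineOpen V) (g r h : Γ(Y, V))
    (hr : ∀ z (hz : z ∈ V), z ∈ Y.basicOpen h → Y.presheaf.germ V z hz r ∈ Ideal.span {Y.presheaf.germ V z hz g}) :
    ∃ m : ℕ, h ^ m * r ∈ Ideal.span {g} := by
  let C : Ideal Γ(Y, V) := Submodule.comap (LinearMap.toSpanSingleton _ Γ(Y, V) r) (Ideal.span {g})
  suffices h ∈ C.radical from this
  rw [Ideal.radical_eq_sInf]
  refine Ideal.mem_sInf.2 ?_
  rintro P ⟨hCP, hP⟩
  by_contra hhP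
  obtain ⟨z, hz, hzP⟩ := InvExt.exists_point_primeIdealOf hV P hP
  have hzh : z ∈ Y.basicOpen h := (InvExt.mem_basicOpen_iff_not_mem hV z hz h).2 (hzP ▸ hhP)
  have h1 := hr z hz hzh
  letI : Algebra Γ(Y, V) (Y.presheaf.stalk z) := TopCat.Presheaf.algebra_section_stalk Y.presheaf ⟨z, hz⟩
  haveI := hV.isLocalization_stalk ⟨z, hz⟩
  rw [← Set.image_singleton, ← Ideal.map_span] at h1
  obtain ⟨s, hs, hsr⟩ := (IsLocalization.algebraMap_mem_map_algebraMap_iff
    (hV.primeIdealOf ⟨z, hz⟩).asIdeal.primeCompl (Y.presheaf.stalk z) (Ideal.span {g}) r).1 h1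
  exact hs (hzP.symm ▸ hCP hsr)

variable [IsLocallyNoetherian X] [IsLocallyNoetherian Y] [Flat f] [Surjective f]

/-- Generators spread out. -/
theorem exists_local_gen (hq : Topology.IsQuotientMap f) (hJ : BlowUp.IsEffCartierIdeal J)
    (hP : ∀ y, ∃ a, Gen f J y a) (y : Y) :
    ∃ W : Y.Opens, IsAffineOpen W ∧ y ∈ W ∧ ∃ g : Γ(Y, W), ∀ z (hz : z ∈ W), Gen f J z (Y.presheaf.germ W z hz g) := by
  obtain ⟨a, ha⟩ := hP y
  obtain ⟨_, ⟨U : Y.Opens, hU, rfl⟩, hyU, -⟩ := Y.isBasis_affineOpens.exists_subset_of_mem_open (Set.mem_univ y) isOpen_univ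
  letI : Algebra Γ(Y, U) (Y.presheaf.stalk y) := TopCat.Presheaf.algebra_section_stalk Y.presheaf ⟨y, hyU⟩
  haveI := hU.isLocalization_stalk ⟨y, hyU⟩
  obtain ⟨⟨g, w⟩, hgw⟩ := IsLocalization.surj (hU.primeIdealOf ⟨y, hyU⟩).asIdeal.primeCompl a
  have hgy : Ideal.span {a} = Ideal.span {Y.presheaf.germ U y hyU g} := by
    change a * Y.presheaf.germ U y hyU w.1 = Y.presheaf.germ U y hyU g at hgw
    rw [← hgw]
    exact (Ideal.span_singleton_mul_right_unit (IsLocalization.map_units (Y.presheaf.stalk y) w) a).symm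
  let G : Set X := {x | ∃ h : f x ∈ U, stalkIdeal J x = Ideal.span {X.presheaf.germ (f ⁻¹ᵁ U) x h (f.app U g)}}
  have hstalk : ∀ x (h : f x ∈ U), X.presheaf.germ (f ⁻¹ᵁ U) x h (f.app U g) = f.stalkMap x (Y.presheaf.germ U (f x) h g) :=
    fun x h => (Scheme.Hom.germ_stalkMap_apply f U x h g).symm
  have hGopen : IsOpen G := by
    refine isOpen_iff_mem_nhds.2 fun x ⟨hxU, hx⟩ => ?_
    obtain ⟨V, hxV, t, htn, ht⟩ := hJ x
    have hVU : x ∈ V.1 ⊓ f ⁻¹ᵁ U := ⟨hxV, hxU⟩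
    rw [IdealStalkLib.stalkIdeal_eq J V x hxV, ht, Ideal.map_span, Set.image_singleton] at hx
    obtain ⟨c₁, hc₁⟩ := Ideal.mem_span_singleton'.1 ((Ideal.span_singleton_le_iff_mem _).1 hx.le)
    obtain ⟨c₂, hc₂⟩ := Ideal.mem_span_singleton'.1 ((Ideal.span_singleton_le_iff_mem _).1 hx.ge)
    obtain ⟨W₁, hxW₁, s₁, rfl⟩ := X.presheaf.exists_germ_eq c₁
    obtain ⟨W₂, hxW₂, s₂, rfl⟩ := X.presheaf.exists_germ_eq c₂
    let W := (V.1 ⊓ f ⁻¹ᵁ U) ⊓ (W₁ ⊓ W₂)
    have hxW : x ∈ W := ⟨hVU, hxW₁, hxW₂⟩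
    have i₀ : W ≤ f ⁻¹ᵁ U := inf_le_left.trans inf_le_right
    have i₁ : W ≤ V.1 := inf_le_left.trans inf_le_left
    have i₂ : W ≤ W₁ := inf_le_right.trans inf_le_left
    have i₃ : W ≤ W₂ := inf_le_right.trans inf_le_right
    let r := fun {A : X.Opens} (i : W ≤ A) => (X.presheaf.map (homOfLE i).op).hom
    have e₁ : X.presheaf.germ W x hxW (r i₂ s₁ * r i₀ (f.app U g)) = X.presheaf.germ W x hxW (r i₁ t) := by
      simp only [r, map_mul, TopCat.Presheaf.germ_res_apply]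
      exact hc₁
    have e₂ : X.presheaf.germ W x hxW (r i₃ s₂ * r i₁ t) = X.presheaf.germ W x hxW (r i₀ (f.app U g)) := by
      simp only [r, map_mul, TopCat.Presheaf.germ_res_apply]
      exact hc₂
    obtain ⟨O₁, hxO₁, j₁, j₁', h₁⟩ := X.presheaf.germ_eq x hxW hxW _ _ e₁
    obtain ⟨O₂, hxO₂, j₂, j₂', h₂⟩ := X.presheaf.germ_eq x hxW hxW _ _ e₂
    refine Filter.mem_of_superset ((O₁ ⊓ O₂).2.mem_nhds ⟨hxO₁, hxO₂⟩) fun z ⟨hz₁, hz₂⟩ => ⟨i₀ (j₁.le hz₁), ?_⟩
    have f₁ := congrArg (X.presheaf.germ O₁ z hz₁) h₁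
    have f₂ := congrArg (X.presheaf.germ O₂ z hz₂) h₂
    simp only [r, map_mul, TopCat.Presheaf.germ_res_apply] at f₁ f₂
    rw [IdealStalkLib.stalkIdeal_eq J V z (i₁ (j₁.le hz₁)), ht, Ideal.map_span, Set.image_singleton]
    exact le_antisymm ((Ideal.span_singleton_le_iff_mem _).2 (Ideal.mem_span_singleton'.2 ⟨_, f₁⟩))
      ((Ideal.span_singleton_le_iff_mem _).2 (Ideal.mem_span_singleton'.2 ⟨_, f₂⟩))
  let O : Set Y := {z | ∃ h : z ∈ U, Gen f J z (Y.presheaf.germ U z h g)}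
  have hpre : f ⁻¹' O = G := by
    refine Set.ext fun x => ⟨fun ⟨h, hg⟩ => ⟨h, ?_⟩, fun ⟨h, hx⟩ => ⟨h, ?_⟩⟩
    · rw [hstalk, hg.2 x (specializes_refl _), φ_refl]
    · obtain ⟨b, hb⟩ := hP (f x)
      refine hb.congr hJ (span_eq_of_φ f (specializes_refl _) rfl ((hb.2 x _).symm.trans ?_))
      rw [hx, hstalk, φ_refl]
  have hO : IsOpen O := hq.isOpen_preimage.1 (hpre ▸ hGopen)
  obtain ⟨_, ⟨W : Y.Opens, hW, rfl⟩, hyW, hWO⟩ := Y.isBasis_affineOpens.exists_subset_of_mem_open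
    (show y ∈ O from ⟨hyU, ha.congr hJ hgy⟩) hO
  refine ⟨W, hW, hyW, Y.presheaf.map (homOfLE (show W ≤ U from fun z hz => (hWO hz).1)).op g, fun z hz => ?_⟩
  rw [TopCat.Presheaf.germ_res_apply]
  exact (hWO hz).2

/-- A divisor with generators at every point of the base descends. -/
theorem exists_descent (hq : Topology.IsQuotientMap f) (hJ : BlowUp.IsEffCartierIdeal J) (hP : ∀ y, ∃ a, Gen f J y a) :
    ∃ I : Y.IdealSheafData, BlowUp.IsEffCartierIdeal I ∧ I.comap f = J := by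
  classical
  choose a ha using hP
  have hloc := exists_local_gen hq hJ (fun y => ⟨a y, ha y⟩)
  let K : ∀ U : Y.affineOpens, Ideal Γ(Y, U.1) := fun U =>
    ⨅ (y : Y) (hy : y ∈ U.1), (Ideal.span {a y}).comap (Y.presheaf.germ U.1 y hy).hom
  have hmem : ∀ {U : Y.affineOpens} {r : Γ(Y, U.1)}, r ∈ K U ↔ ∀ y (hy : y ∈ U.1), Y.presheaf.germ U.1 y hy r ∈ Ideal.span {a y} :=
    fun {U r} => by simp only [K, Submodule.mem_iInf, Ideal.mem_comap]
  have hmap : ∀ (U : Y.affineOpens) (h : Γ(Y, U.1)),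
      (K U).map (Y.presheaf.map (homOfLE (Y.basicOpen_le h)).op).hom = K (Y.affineBasicOpen h) := by
    intro U h
    let ρ := (Y.presheaf.map (homOfLE (Y.basicOpen_le h)).op).hom
    refine le_antisymm (Ideal.map_le_iff_le_comap.2 fun r hr => hmem.2 fun y hy => ?_) fun r hr => ?_
    · erw [TopCat.Presheaf.germ_res_apply]
      exact hmem.1 hr y (Y.basicOpen_le h hy)
    letI : Algebra Γ(Y, U.1) Γ(Y, Y.basicOpen h) := ρ.toAlgebra
    haveI := U.2.isLocalization_basicOpen h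
    obtain ⟨⟨r₀, ⟨_, k, rfl⟩⟩, hr₀⟩ := IsLocalization.surj (Submonoid.powers h) r
    change r * ρ (h ^ k) = ρ r₀ at hr₀
    have hW : ∀ z : U.1, ∃ V : Y.affineOpens, z.1 ∈ V.1 ∧ ∃ (hVU : V.1 ≤ U.1) (g : Γ(Y, V.1)),
        ∀ y (hy : y ∈ V.1), Ideal.span {Y.presheaf.germ V.1 y hy g} = Ideal.span {a y} := fun z => by
      obtain ⟨W, -, hzW, g, hg⟩ := hloc z.1
      obtain ⟨_, ⟨V : Y.Opens, hV, rfl⟩, hzV, hVW⟩ := Y.isBasis_affineOpens.exists_subset_of_mem_open
        (show z.1 ∈ W ⊓ U.1 from ⟨hzW, z.2⟩) (W ⊓ U.1).2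
      refine ⟨⟨V, hV⟩, hzV, fun y hy => (hVW hy).2, Y.presheaf.map (homOfLE (show V ≤ W from fun y hy => (hVW hy).1)).op g, fun y hy => ?_⟩
      rw [TopCat.Presheaf.germ_res_apply]
      exact (hg y (hVW hy).1).unique (ha y)
    choose V hzV hVU g hg using hW
    obtain ⟨T, hT⟩ := U.2.isCompact.elim_finite_subcover (fun z => ((V z).1 : Set Y)) (fun z => (V z).1.2)
      fun y hy => Set.mem_iUnion.2 ⟨⟨y, hy⟩, hzV ⟨y, hy⟩⟩
    have hm : ∀ z, ∃ m : ℕ, (Y.presheaf.map (homOfLE (hVU z)).op h) ^ m * Y.presheaf.map (homOfLE (hVU z)).op r₀ ∈ Ideal.span {g z} := by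
      refine fun z => exists_pow_mul_mem_span (V z).2 _ _ _ fun y hy hyh => ?_
      rw [hg z y hy, TopCat.Presheaf.germ_res_apply]
      rw [Y.basicOpen_res] at hyh
      have h1 := congrArg (Y.presheaf.germ (Y.basicOpen h) y hyh.2) hr₀
      simp only [ρ, map_mul] at h1
      erw [TopCat.Presheaf.germ_res_apply, TopCat.Presheaf.germ_res_apply] at h1
      erw [← h1]
      exact Ideal.mul_mem_right _ _ (hmem.1 hr y hyh.2)
    choose m hm using hm
    have hN : h ^ T.sup m * r₀ ∈ K U := hmem.2 fun y hy => by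
      obtain ⟨z, hzT, hyz⟩ := Set.mem_iUnion₂.1 (hT hy)
      have h1 := Ideal.mem_map_of_mem (Y.presheaf.germ (V z).1 y hyz).hom (hm z)
      rw [Ideal.map_span, Set.image_singleton, map_mul, map_pow] at h1
      erw [hg z y hyz, TopCat.Presheaf.germ_res_apply, TopCat.Presheaf.germ_res_apply] at h1
      rw [map_mul, map_pow, ← Nat.sub_add_cancel (Finset.le_sup (f := m) hzT), pow_add, mul_assoc]
      exact Ideal.mul_mem_left _ _ h1
    have h2 := Ideal.mem_map_of_mem ρ hN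
    rw [map_mul, ← hr₀, map_pow, map_pow, mul_left_comm, mul_comm, ← pow_add] at h2
    exact (Ideal.unit_mul_mem_iff_mem _ ((RingedSpace.isUnit_res_basicOpen _ h).pow _)).1 h2
  let I : Y.IdealSheafData := { ideal := K, map_ideal_basicOpen := hmap }
  have hchart : ∀ y, ∃ (W : Y.affineOpens) (hyW : y ∈ W.1), ∃ g : Γ(Y, W.1), g ∈ nonZeroDivisors Γ(Y, W.1) ∧ K W = Ideal.span {g} ∧
      Ideal.span {Y.presheaf.germ W.1 y hyW g} = Ideal.span {a y} := fun y => by
    obtain ⟨W, hW, hyW, g, hg⟩ := hloc y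
    refine ⟨⟨W, hW⟩, hyW, g, ?_, le_antisymm (fun r hr => ?_) ?_, (hg y hyW).unique (ha y)⟩
    · refine mem_nonZeroDivisors_iff_right.2 fun s hs => TopCat.Presheaf.section_ext Y.sheaf W s 0 fun z hz => ?_
      refine ((mem_nonZeroDivisors_iff_right.1 (hg z hz).1) _ ?_).trans (map_zero _).symm
      show Y.presheaf.germ W z hz s * _ = 0
      rw [← map_mul, hs, map_zero]
    · obtain ⟨m, hm⟩ := exists_pow_mul_mem_span hW g r 1 fun z hz _ => by
        rw [(hg z hz).unique (ha z)]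
        exact hmem.1 hr z hz
      simpa using hm
    · refine (Ideal.span_singleton_le_iff_mem _).2 (hmem.2 fun z hz => ?_)
      rw [← (hg z hz).unique (ha z)]
      exact Ideal.mem_span_singleton_self _
  refine ⟨I, fun y => ?_, DivisorialLib.ext_stalk fun x => ?_⟩
  · obtain ⟨W, hyW, g, hg, hK, -⟩ := hchart y
    exact ⟨W, hyW, g, hg, hK⟩
  · obtain ⟨W, hyW, g, -, hK, hgy⟩ := hchart (f x)
    rw [IdealStalkLib.stalkIdeal_comap, IdealStalkLib.stalkIdeal_eq I W (f x) hyW, show I.ideal W = Ideal.span {g} from hK,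
      Ideal.map_span, Set.image_singleton]
    erw [hgy]
    rw [Ideal.map_span, Set.image_singleton, (ha (f x)).2 x (specializes_refl _), φ_refl]

omit [IsLocallyNoetherian X] [IsLocallyNoetherian Y] in
/-- A descended divisor gives generators. -/
theorem exists_gen_of_descent (hJ : BlowUp.IsEffCartierIdeal J) {I : Y.IdealSheafData}
    (hI : BlowUp.IsEffCartierIdeal I) (hIJ : I.comap f = J) (y : Y) : ∃ a, Gen f J y a := by
  obtain ⟨b, hbn, hb⟩ := BlowExistsLib.exists_stalk_generator hI y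
  refine ⟨b, hbn, fun x h => ?_⟩
  rw [← hIJ, IdealStalkLib.stalkIdeal_comap, stalkIdeal_gen I h hb, Ideal.map_span, Set.image_singleton]
  rfl

omit [IsLocallyNoetherian X] [IsLocallyNoetherian Y] [Surjective f] in
theorem isQuotientMap [Surjective f] (hf : QuasiCompact f ∨ IsOpenMap f) : Topology.IsQuotientMap f := by
  rcases hf with h | h
  · exact Flat.isQuotientMap_of_surjective f
  · exact h.isQuotientMap f.continuous f.surjective

end Groth.Agent.DivDescLib
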