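import Groth.Agent.DivDescLib.ModStep
import Groth.Agent.DivDescLib.Global
import Groth.Agent.ParaFLib.Glue
import Groth.Agent.ParaFLib.Cocycle
import Groth.Agent.ParaFLib.ExtendMain

/-!
# Descending invertible modules trivial on the generic fibres
-/

set_option autoImplicit false
set_option backward.isDefEq.respectTransparency false
set_option linter.style.haveILetI false

universe u

open CategoryTheory CategoryTheory.Limits AlgebraicGeometry TopologicalSpace IsLocalRing Opposite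
open Groth.Agent.PullbackMod Groth.Agent.ParaFLib Groth.Agent.AmpleLib

noncomputable section

namespace Groth.Agent.DivDescLib

variable {X Y : Scheme.{u}} {f : X ⟶ Y} [Flat f] [Surjective f]

/-- Functions whose germs come from the base come from the base. -/
theorem exists_fun_descent (hq : Topology.IsQuotientMap f) {V : Y.Opens} (r : Γ(X, f ⁻¹ᵁ V))
    (h : ∀ z ∈ V, ∃ d : Y.presheaf.stalk z, ∀ (x : X) (e : f x = z) (hx : x ∈ f ⁻¹ᵁ V),
      X.presheaf.germ (f ⁻¹ᵁ V) x hx r = φ f (specializes_of_eq e) d) :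
    ∃ u : Γ(Y, V), f.app V u = r := by
  have hloc : ∀ z : V, ∃ (N : Y.Opens) (_ : z.1 ∈ N) (hN : N ≤ V) (u : Γ(Y, N)),
      f.app N u = X.presheaf.map (homOfLE (f.preimage_mono hN)).op r := by
    intro z
    obtain ⟨d, hd⟩ := h z.1 z.2
    obtain ⟨N, hzN, u, rfl⟩ := Y.presheaf.exists_germ_eq d
    let O : Set Y := {z' | ∃ (h₁ : z' ∈ N) (h₂ : z' ∈ V), ∀ (x : X) (e : f x = z'),
      X.presheaf.germ (f ⁻¹ᵁ N) x (show f x ∈ N from e ▸ h₁) (f.app N u) =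
        X.presheaf.germ (f ⁻¹ᵁ V) x (show f x ∈ V from e ▸ h₂) r}
    let G : Set X := {x | ∃ (h₁ : f x ∈ N) (h₂ : f x ∈ V),
      X.presheaf.germ (f ⁻¹ᵁ N) x h₁ (f.app N u) = X.presheaf.germ (f ⁻¹ᵁ V) x h₂ r}
    have hpre : f ⁻¹' O = G := by
      refine Set.ext fun x => ⟨fun ⟨h₁, h₂, hx⟩ => ⟨h₁, h₂, hx x rfl⟩, fun ⟨h₁, h₂, hx⟩ => ⟨h₁, h₂, fun x' e => ?_⟩⟩
      obtain ⟨d', hd'⟩ := h (f x) h₂
      rw [hd' x' e (show f x' ∈ V from e ▸ h₂), ← φ_germ f (specializes_of_eq e) h₁]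
      refine congrArg _ (φ_injective f (specializes_of_eq rfl) rfl ?_)
      rw [φ_germ]
      exact hx.trans (hd' x rfl h₂)
    have hG : IsOpen G := isOpen_iff_mem_nhds.2 fun x ⟨h₁, h₂, hx⟩ => by
      obtain ⟨O₁, hxO, i, j, hO⟩ := X.presheaf.germ_eq x h₁ h₂ _ _ hx
      refine Filter.mem_of_superset (O₁.2.mem_nhds hxO) fun x' hx' => ⟨i.le hx', j.le hx', ?_⟩
      have := congrArg (X.presheaf.germ O₁ x' hx') hO
      rwa [TopCat.Presheaf.germ_res_apply, TopCat.Presheaf.germ_res_apply] at this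
    let N' : Y.Opens := ⟨O, hq.isOpen_preimage.1 (hpre ▸ hG)⟩
    have hN : N' ≤ N := fun z' hz' => hz'.1
    refine ⟨N', ⟨hzN, z.2, fun x e => ?_⟩, fun z' hz' => hz'.2.1, Y.presheaf.map (homOfLE hN).op u, ?_⟩
    · rw [hd x e (show f x ∈ V from e ▸ z.2), φ_germ]
    refine TopCat.Presheaf.section_ext X.sheaf _ _ _ fun x hx => ?_
    show X.presheaf.germ _ x hx (f.app N' _) = X.presheaf.germ _ x hx _
    rw [TopCat.Presheaf.germ_res_apply, ← Scheme.Hom.germ_stalkMap_apply f N' x hx, TopCat.Presheaf.germ_res_apply,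
      Scheme.Hom.germ_stalkMap_apply]
    exact hx.2.2 x rfl
  choose N hzN hN u hu using hloc
  obtain ⟨g, hg, -⟩ := Y.sheaf.existsUnique_gluing' N V (fun z => homOfLE (hN z))
    (fun z hz => Opens.mem_iSup.2 ⟨⟨z, hz⟩, hzN _⟩) u (fun z z' =>
      TopCat.Presheaf.section_ext Y.sheaf _ _ _ fun w hw => by
        show Y.presheaf.germ _ w hw (Y.presheaf.map _ _) = Y.presheaf.germ _ w hw (Y.presheaf.map _ _)
        rw [TopCat.Presheaf.germ_res_apply, TopCat.Presheaf.germ_res_apply]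
        obtain ⟨x, rfl⟩ := f.surjective w
        refine φ_injective f (specializes_refl (f x)) rfl ?_
        rw [φ_germ, φ_germ, hu, hu, TopCat.Presheaf.germ_res_apply, TopCat.Presheaf.germ_res_apply])
  refine ⟨g, TopCat.Presheaf.section_ext X.sheaf _ _ _ fun x hx => ?_⟩
  show X.presheaf.germ _ x hx (f.app V g) = _
  have e : Y.presheaf.map (homOfLE (hN ⟨f x, hx⟩)).op g = u ⟨f x, hx⟩ := hg ⟨f x, hx⟩
  rw [← Scheme.Hom.germ_stalkMap_apply f V x hx, ← TopCat.Presheaf.germ_res_apply Y.presheaf (homOfLE (hN ⟨f x, hx⟩))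
    (f x) (hzN ⟨f x, hx⟩) g, e, Scheme.Hom.germ_stalkMap_apply, hu, TopCat.Presheaf.germ_res_apply]
  rfl

variable {L : X.Modules} {η : Y} {σ : Γ((Scheme.Modules.pullback (f.fiberι η)).obj L, ⊤)}

/-- A basis over a neighbourhood. -/
theorem exists_local_basis (hY : Pi1.IsNormalScheme Y) (hη : ∀ z : Y, z ⤳ η → z = η)
    (hσ : ParaFLib.Gen (⊤ : (f.fiber η).Opens) σ) (hq : Topology.IsQuotientMap f) {U₀ : Y.Opens}
    (hU₀ : ∀ z ∈ U₀, η ⤳ z) (hgood : ∀ z ∈ U₀, ∃ c, Good f L η σ z c) {y : Y} (hy : y ∈ U₀) :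
    ∃ (U : Y.Opens) (e : Γ(L, f ⁻¹ᵁ U)) (c : Y.presheaf.stalk η), y ∈ U ∧ U ≤ U₀ ∧ c ≠ 0 ∧
      ParaFLib.Gen (f ⁻¹ᵁ U) e ∧ Rel f L η σ (f ⁻¹ᵁ U) e c := by
  haveI := (hY η).1
  obtain ⟨c, hc⟩ := hgood y hy
  let O : Set Y := {z | z ∈ U₀ ∧ Good f L η σ z c}
  have hO : IsOpen O := by
    refine hq.isOpen_preimage.1 ?_
    have : f ⁻¹' O = {x | f x ∈ U₀ ∧ Gd f L η σ x c} := by
      refine Set.ext fun x => ⟨fun ⟨h₁, h₂⟩ => ⟨h₁, h₂ x rfl⟩, fun ⟨h₁, h₂⟩ => ⟨h₁, fun x' e => ?_⟩⟩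
      obtain ⟨c', hc'⟩ := hgood (f x) h₁
      exact (hc' x rfl).trans hY hη hσ h₂ (hc' x' e) e (hU₀ _ h₁)
    rw [this]
    refine isOpen_iff_mem_nhds.2 fun x ⟨h₁, hc0, W, ew, hxW, hW⟩ => ?_
    exact Filter.mem_of_superset ((W ⊓ f ⁻¹ᵁ U₀).2.mem_nhds ⟨hxW, h₁⟩) fun x' hx' => ⟨hx'.2, hc0, W, ew, hx'.1, hW⟩
  let U : Y.Opens := ⟨O, hO⟩
  obtain ⟨x₀, hx₀⟩ := f.surjective y
  have hc0 : c ≠ 0 := (hc x₀ hx₀).1
  have hsec : ∀ x : (f ⁻¹ᵁ U : X.Opens), ∃ (W : X.Opens) (e : Γ(L, W)), x.1 ∈ W ∧ W ≤ f ⁻¹ᵁ U ∧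
      ParaFLib.Gen W e ∧ Rel f L η σ W e c := fun x => by
    obtain ⟨-, W, e, hxW, he, hR⟩ := x.2.2 x.1 rfl
    exact ⟨W ⊓ f ⁻¹ᵁ U, _, ⟨hxW, x.2⟩, inf_le_right, he.res inf_le_left, hR.res inf_le_left⟩
  choose W e hxW hWU he hR using hsec
  let F : TopCat.Sheaf Ab.{u} X.carrier := ⟨L.presheaf, L.isSheaf⟩
  obtain ⟨s, hs, -⟩ := F.existsUnique_gluing' W (f ⁻¹ᵁ U) (fun x => homOfLE (hWU x))
    (fun x hx => Opens.mem_iSup.2 ⟨⟨x, hx⟩, hxW _⟩) e (fun i j => by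
      show L.presheaf.map (homOfLE (inf_le_left : W i ⊓ W j ≤ W i)).op (e i) =
        L.presheaf.map (homOfLE (inf_le_right : W i ⊓ W j ≤ W j)).op (e j)
      obtain ⟨r, -, hre⟩ := ((he i).res (inf_le_left : W i ⊓ W j ≤ W i)).exists_unit ((he j).res inf_le_right)
      suffices r = 1 by rw [← hre, this, one_smul]
      refine TopCat.Presheaf.section_ext X.sheaf _ _ _ fun x hx => ?_
      show X.presheaf.germ _ x hx r = X.presheaf.germ _ x hx 1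
      have hηx : η ⤳ f x := hU₀ _ (hWU i hx.1).1
      obtain ⟨d, hd, hdr⟩ := key hY hη hσ hc0 ((hR j).res (inf_le_right : W i ⊓ W j ≤ W j))
        (hre ▸ (hR i).res (inf_le_left : W i ⊓ W j ≤ W i)) hx hηx
      rw [hdr, map_one, show d = 1 from toK_injective hY hη hηx (mul_right_cancel₀ hc0 (by rw [hd, map_one, one_mul])), map_one])
  have hgerm : ∀ (x : X) (hx : x ∈ f ⁻¹ᵁ U), L.presheaf.germ (f ⁻¹ᵁ U) x hx s =
      L.presheaf.germ (W ⟨x, hx⟩) x (hxW ⟨x, hx⟩) (e ⟨x, hx⟩) := fun x hx => by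
    rw [← show L.presheaf.map (homOfLE (hWU ⟨x, hx⟩)).op s = e ⟨x, hx⟩ from hs ⟨x, hx⟩, TopCat.Presheaf.germ_res_apply]
  refine ⟨U, s, c, ⟨hy, hc⟩, fun z hz => hz.1, hc0, gen_of_germ fun x hx => ?_, fun z hz => ?_⟩
  · rw [hgerm x hx]
    exact (he ⟨x, hx⟩).bijective_germ x (hxW ⟨x, hx⟩)
  · rw [hgerm _ hz]
    exact hR ⟨_, hz⟩ z (hxW ⟨_, hz⟩)

/-- An invertible module trivial on the fibres over the maximal points descends. -/
theorem exists_module_descent [IsLocallyNoetherian Y] (hq : Topology.IsQuotientMap f) (hY : Pi1.IsNormalScheme Y)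
    (hfib : ∀ y : Y, ringKrullDim (Y.presheaf.stalk y) = 1 → IsIntegral (f.fiber y))
    (hL : PicF.IsInvertible L)
    (htriv : ∀ η : Y, (∀ z : Y, z ⤳ η → z = η) →
      Nonempty ((Scheme.Modules.pullback (f.fiberι η)).obj L ≅ Coh.structureModule (f.fiber η))) :
    ∃ M : Y.Modules, PicF.IsInvertible M ∧ Nonempty ((Scheme.Modules.pullback f).obj M ≅ L) := by
  classical
  have hS : ∀ η : Y, ∃ σ : Γ((Scheme.Modules.pullback (f.fiberι η)).obj L, ⊤),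
      (∀ z : Y, z ⤳ η → z = η) → ParaFLib.Gen (⊤ : (f.fiber η).Opens) σ := fun η => by
    by_cases hη : ∀ z : Y, z ⤳ η → z = η
    · obtain ⟨φ⟩ := htriv η hη
      exact ⟨_, fun _ => gen_of_modIso φ.symm (gen_one ⊤)⟩
    · exact ⟨0, fun h => absurd h hη⟩
  choose σ hσ using hS
  have hloc : ∀ y : Y, ∃ (U : Y.Opens) (e : Γ(L, f ⁻¹ᵁ U)) (η : Y) (c : Y.presheaf.stalk η), y ∈ U ∧
      (∀ z : Y, z ⤳ η → z = η) ∧ (∀ z ∈ U, η ⤳ z) ∧ c ≠ 0 ∧
      ParaFLib.Gen (f ⁻¹ᵁ U) e ∧ Rel f L η (σ η) (f ⁻¹ᵁ U) e c := fun y => by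
    haveI := (hY y).1
    obtain ⟨η, hηy, hη⟩ := exists_maximal y
    obtain ⟨U₀, hyU₀, hU₀⟩ := exists_nhd_maximal y
    obtain ⟨U, e, c, hyU, hUU₀, hc, he, hR⟩ := exists_local_basis hY hη (hσ η hη) hq (hU₀ η hηy hη)
      (fun z hz => exists_good hY hη (hσ η hη) hL hfib z (hU₀ η hηy hη z hz)) hyU₀
    exact ⟨U, e, η, c, hyU, hη, fun z hz => hU₀ η hηy hη z (hUU₀ hz), hc, he, hR⟩
  choose U e η c hyU hη hUη hc he hR using hloc
  have htr : ∀ i j : Y, ∃ u : Γ(Y, U i ⊓ U j), IsUnit u ∧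
      f.app (U i ⊓ U j) u • L.presheaf.map (homOfLE (f.preimage_mono (inf_le_right : U i ⊓ U j ≤ U j))).op (e j) =
        L.presheaf.map (homOfLE (f.preimage_mono (inf_le_left : U i ⊓ U j ≤ U i))).op (e i) := by
    intro i j
    obtain ⟨r, hr, hre⟩ := ((he i).res (f.preimage_mono (inf_le_left : U i ⊓ U j ≤ U i))).exists_unit
      ((he j).res (f.preimage_mono (inf_le_right : U i ⊓ U j ≤ U j)))
    have hpt : ∀ z ∈ U i ⊓ U j, ∃ d : Y.presheaf.stalk z, ∀ (x : X) (e : f x = z) (hx : x ∈ f ⁻¹ᵁ (U i ⊓ U j)),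
        X.presheaf.germ (f ⁻¹ᵁ (U i ⊓ U j)) x hx r = φ f (specializes_of_eq e) d := by
      intro z hz
      haveI := (hY z).1
      have gen : ∀ (η₁ η₂ : Y) (c₁ : Y.presheaf.stalk η₁) (c₂ : Y.presheaf.stalk η₂), η₁ = η₂ →
          (∀ w : Y, w ⤳ η₁ → w = η₁) → η₁ ⤳ z → c₂ ≠ 0 → ParaFLib.Gen (⊤ : (f.fiber η₁).Opens) (σ η₁) →
          Rel f L η₁ (σ η₁) (f ⁻¹ᵁ (U i ⊓ U j)) (L.presheaf.map (homOfLE (f.preimage_mono inf_le_left)).op (e i)) c₁ →
          Rel f L η₂ (σ η₂) (f ⁻¹ᵁ (U i ⊓ U j)) (L.presheaf.map (homOfLE (f.preimage_mono inf_le_right)).op (e j)) c₂ →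
          ∃ d : Y.presheaf.stalk z, ∀ (x : X) (e : f x = z) (hx : x ∈ f ⁻¹ᵁ (U i ⊓ U j)),
            X.presheaf.germ (f ⁻¹ᵁ (U i ⊓ U j)) x hx r = φ f (specializes_of_eq e) d := by
        intro η₁ η₂ c₁ c₂ h12 hmax hη₁z hc₂ hgen h₁ h₂
        subst h12
        haveI := (hY η₁).1
        obtain ⟨x₀, rfl⟩ := f.surjective z
        rw [← hre] at h₁
        obtain ⟨d₀, hd₀, -⟩ := key hY hmax hgen hc₂ h₂ h₁ hz hη₁z
        refine ⟨d₀, fun x ex hx => ?_⟩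
        have key2 : ∀ (z : Y) (hz : η₁ ⤳ z) (d₀ : Y.presheaf.stalk z),
            Y.presheaf.stalkSpecializes hz d₀ * c₂ = c₁ → ∀ (e : f x = z),
            X.presheaf.germ (f ⁻¹ᵁ (U i ⊓ U j)) x hx r = φ f (specializes_of_eq e) d₀ := by
          intro z hz d₀ hd₀ e
          subst e
          obtain ⟨d, hd, hdr⟩ := key hY hmax hgen hc₂ h₂ h₁ hx hz
          rw [hdr, toK_injective hY hmax hz (mul_right_cancel₀ hc₂ (hd.trans hd₀.symm))]
        exact key2 _ hη₁z d₀ hd₀ ex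
      exact gen (η i) (η j) (c i) (c j) (maximal_unique (hη i) (hη j) (hUη i z hz.1) (hUη j z hz.2)) (hη i) (hUη i z hz.1)
        (hc j) (hσ _ (hη i)) ((hR i).res _) ((hR j).res _)
    obtain ⟨u, rfl⟩ := exists_fun_descent hq r hpt
    refine ⟨u, RingedSpace.isUnit_of_isUnit_germ _ _ _ fun z hz => ?_, hre⟩
    obtain ⟨x, rfl⟩ := f.surjective z
    have h1 : IsUnit (f.stalkMap x (Y.presheaf.germ (U i ⊓ U j) (f x) hz u)) := by
      rw [Scheme.Hom.germ_stalkMap_apply]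
      exact hr.map _
    exact isUnit_of_map_unit (f.stalkMap x).hom _ h1
  choose u hu hue using htr
  have hinj : ∀ (V : Y.Opens) (a b : Γ(Y, V)), f.app V a = f.app V b → a = b := fun V a b hab =>
    TopCat.Presheaf.section_ext Y.sheaf V a b fun z hz => by
      obtain ⟨x, rfl⟩ := f.surjective z
      refine φ_injective f (specializes_refl (f x)) rfl ?_
      show φ f _ (Y.presheaf.germ V (f x) hz a) = φ f _ (Y.presheaf.germ V (f x) hz b)
      rw [φ_germ, φ_germ, hab]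
  have hcoc : ParaFLib.IsCocycle U (fun i j => (hu i j).unit) := by
    intro i j k
    simp only [IsUnit.unit_spec]
    refine hinj _ _ _ ((((he k).res (f.preimage_mono (inf_le_right : U i ⊓ U j ⊓ U k ≤ U k))) _ le_rfl).1 ?_)
    rw [map_mul]
    have hn : ∀ {A B : Y.Opens} (h : B ≤ A) (a : Γ(Y, A)), f.app B (Y.presheaf.map (homOfLE h).op a) =
        X.presheaf.map (homOfLE (f.preimage_mono h)).op (f.app A a) := fun h a => congr($(f.naturality (homOfLE h).op).hom a)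
    simp only [hn]
    show _ • _ = (_ * _) • _
    rw [ParaFLib.res_res]
    have e1 := congrArg (L.presheaf.map (homOfLE (f.preimage_mono
      (inf_le_inf_right (U k) inf_le_left : U i ⊓ U j ⊓ U k ≤ U i ⊓ U k))).op) (hue i k)
    have e2 := congrArg (L.presheaf.map (homOfLE (f.preimage_mono
      (inf_le_left : U i ⊓ U j ⊓ U k ≤ U i ⊓ U j))).op) (hue i j)
    have e3 := congrArg (L.presheaf.map (homOfLE (f.preimage_mono
      (inf_le_inf_right (U k) inf_le_right : U i ⊓ U j ⊓ U k ≤ U j ⊓ U k))).op) (hue j k)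
    rw [L.map_smul, ParaFLib.res_res, ParaFLib.res_res] at e1 e2 e3
    rw [mul_smul]
    exact e1.trans (e2.symm.trans (congrArg _ e3.symm))
  have hcov : iSup U = ⊤ := top_le_iff.1 fun y _ => Opens.mem_iSup.2 ⟨y, hyU y⟩
  obtain ⟨M, s, hM, hs, hst⟩ := ParaFLib.exists_invertible_of_cocycle U _ hcov hcoc
  refine ⟨M, hM, ?_⟩
  refine ParaFLib.nonempty_iso_of_bases (U := fun i => f ⁻¹ᵁ U i) (s := fun i => pullMap f M le_rfl (s i)) (t := e)
    (top_le_iff.1 fun x _ => Opens.mem_iSup.2 ⟨f x, hyU (f x)⟩) (fun i => CubeLib.gen_pullMap f hM (hs i) le_rfl) he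
    (fun i j => f.app (U i ⊓ U j) (u i j)) (fun i j => ?_) (fun i j => (hue i j).symm)
  have h1 := congrArg (pullMap f M (le_refl (f ⁻¹ᵁ (U i ⊓ U j)))) (hst i j)
  rw [pullMap_smul, ← Scheme.Hom.app_eq_appLE, IsUnit.unit_spec] at h1
  have r1 := pullMap_res f M (le_refl (f ⁻¹ᵁ U i)) (inf_le_left : U i ⊓ U j ≤ U i)
    (f.preimage_mono inf_le_left) (le_refl (f ⁻¹ᵁ (U i ⊓ U j))) (s i)
  have r2 := pullMap_res f M (le_refl (f ⁻¹ᵁ U j)) (inf_le_right : U i ⊓ U j ≤ U j)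
    (f.preimage_mono inf_le_right) (le_refl (f ⁻¹ᵁ (U i ⊓ U j))) (s j)
  rw [← r1, ← r2] at h1
  exact h1

end Groth.Agent.DivDescLib
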