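import Groth.Agent.Depth.Basic
import Groth.Agent.S0335
import Mathlib.RingTheory.Flat.EquationalCriterion
import Mathlib.RingTheory.Flat.FaithfullyFlat.Basic

/-!
# Descending a principal ideal along a flat local homomorphism, in depth at least two
-/

set_option autoImplicit false
set_option linter.style.haveILetI false

universe u

open IsLocalRing RingTheory.Sequence Pointwise

namespace Groth.Agent.DivDescLib

variable {A : Type u} [CommRing A] [IsLocalRing A] [IsNoetherianRing A]

theorem exists_regular_pair (hd : (2 : ℕ∞) ≤ LocCoh.depth A A) :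
    ∃ x ∈ maximalIdeal A, ∃ y ∈ maximalIdeal A, (∀ z, x * z = 0 → z = 0) ∧ ∀ z, x ∣ y * z → x ∣ z := by
  have hne : maximalIdeal A • (⊤ : Submodule A A) ≠ ⊤ := by
    rw [smul_eq_mul, Ideal.mul_top]; exact Ideal.IsPrime.ne_top'
  obtain ⟨s, hs, hsm, hsw⟩ := (Groth.Agent.Depth.le_idealDepth_iff (R := A) (M := A) (I := maximalIdeal A) hne 2).mp hd
  obtain ⟨x, y, rfl⟩ := List.length_eq_two.mp hs
  rw [isWeaklyRegular_cons_iff, isWeaklyRegular_singleton_iff] at hsw
  have h1 : ∀ z, x * z = 0 → z = 0 := fun z hz => hsw.1 (by simpa using hz)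
  have hspan : ∀ z : A, z ∈ (x • ⊤ : Submodule A A) ↔ x ∣ z := fun z => by
    rw [← Submodule.ideal_span_singleton_smul, smul_eq_mul, Ideal.mul_top, Ideal.mem_span_singleton]
  refine ⟨x, hsm x (by simp), y, hsm y (by simp), h1, fun z hz => ?_⟩
  rw [← hspan] at hz ⊢
  have h3 : y • (Submodule.Quotient.mk z : QuotSMulTop x A) = y • (0 : QuotSMulTop x A) := by
    rw [smul_zero, ← Submodule.Quotient.mk_smul]
    exact (Submodule.Quotient.mk_eq_zero _).2 hz
  exact (Submodule.Quotient.mk_eq_zero _).1 (hsw.2 h3)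

variable {B : Type u} [CommRing B] [Algebra A B] [Module.Flat A B]

/-- If `u t` and `v t` are combinations of elements of `A` divisible by `t` for a regular pair `u, v`, then so is `t`. -/
theorem mem_map_comap {u v : A} (hu : ∀ z, u * z = 0 → z = 0) (hv : ∀ z, u ∣ v * z → u ∣ z)
    {t : B} (ht : t ∈ nonZeroDivisors B)
    (h₁ : algebraMap A B u * t ∈ ((Ideal.span {t}).comap (algebraMap A B)).map (algebraMap A B))
    (h₂ : algebraMap A B v * t ∈ ((Ideal.span {t}).comap (algebraMap A B)).map (algebraMap A B)) :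
    t ∈ ((Ideal.span {t}).comap (algebraMap A B)).map (algebraMap A B) := by
  classical
  set I := (Ideal.span {t}).comap (algebraMap A B) with hI
  have hrep : ∀ e ∈ I.map (algebraMap A B), ∃ (n : ℕ) (b : Fin n → B) (g : Fin n → I), ∑ i, b i * algebraMap A B (g i) = e := fun e he => by
    obtain ⟨n, b, g, hb⟩ := (Submodule.mem_span_set').1 he
    choose a ha hag using fun i => (g i).2
    exact ⟨n, b, fun i => ⟨a i, ha i⟩, by simp only [hag]; exact hb⟩
  obtain ⟨n₁, b, g, hb⟩ := hrep _ h₁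
  obtain ⟨n₂, c, h, hc⟩ := hrep _ h₂
  let f : Fin n₁ ⊕ Fin n₂ → A := Sum.elim (fun i => v * g i) fun i => -(u * h i)
  let x : Fin n₁ ⊕ Fin n₂ → B := Sum.elim b c
  have hrel : ∑ i, f i • x i = 0 := by
    simp only [Fintype.sum_sum_type, f, x, Sum.elim_inl, Sum.elim_inr, Algebra.smul_def, map_mul, map_neg]
    rw [Finset.sum_congr rfl (fun i _ => show algebraMap A B v * algebraMap A B (g i) * b i = algebraMap A B v * (b i * algebraMap A B (g i)) by ring),
      Finset.sum_congr rfl (fun i _ => show -(algebraMap A B u * algebraMap A B (h i)) * c i = -(algebraMap A B u * (c i * algebraMap A B (h i))) by ring),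
      Finset.sum_neg_distrib, ← Finset.mul_sum, ← Finset.mul_sum, hb, hc]
    ring
  obtain ⟨k, a, y, hx, ha⟩ := Module.Flat.isTrivialRelation_of_sum_smul_eq_zero (R := A) (M := B) hrel
  have hreg : IsSMulRegular B u := Module.Flat.isSMulRegular_of_nonZeroDivisors (mem_nonZeroDivisors_iff_right.2 fun z hz => hu z (by rw [mul_comm]; exact hz))
  have hex : ∀ j, ∃ e ∈ I, ∑ i, (g i : A) * a (Sum.inl i) j = u * e := fun j => by
    have h0 := ha j
    simp only [Fintype.sum_sum_type, f, Sum.elim_inl, Sum.elim_inr, neg_mul, Finset.sum_neg_distrib, mul_assoc, ← Finset.mul_sum] at h0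
    rw [add_neg_eq_zero] at h0
    obtain ⟨e, he⟩ := hv _ ⟨_, h0⟩
    have he' : ∑ i, (h i : A) * a (Sum.inr i) j = v * e := by
      refine sub_eq_zero.1 (hu _ ?_)
      rw [mul_sub, ← h0, he]
      ring
    refine ⟨e, ?_, he⟩
    obtain ⟨z, hz⟩ : t ∣ algebraMap A B (u * e) := by
      rw [← he, ← Ideal.mem_span_singleton]
      exact Ideal.mem_comap.1 (Ideal.sum_mem I fun i _ => I.mul_mem_right _ (g i).2)
    obtain ⟨w, hw⟩ : t ∣ algebraMap A B (v * e) := by
      rw [← he', ← Ideal.mem_span_singleton]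
      exact Ideal.mem_comap.1 (Ideal.sum_mem I fun i _ => I.mul_mem_right _ (h i).2)
    have h3 : algebraMap A B v * z = algebraMap A B u * w := by
      refine (mul_cancel_left_mem_nonZeroDivisors ht).1 ?_
      rw [map_mul] at hz hw
      linear_combination algebraMap A B u * hw - algebraMap A B v * hz
    obtain ⟨k', a', y', hx', ha'⟩ := Module.Flat.isTrivialRelation_of_sum_smul_eq_zero (R := A) (M := B)
      (f := ![v, -u]) (x := ![z, w]) (by simp [Fin.sum_univ_two, Algebra.smul_def, h3])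
    have hdvd : algebraMap A B u ∣ z := by
      rw [show z = ∑ j, a' 0 j • y' j from hx' 0]
      refine Finset.dvd_sum fun j _ => ?_
      have h4 := ha' j
      simp only [Fin.sum_univ_two, Matrix.cons_val_zero, Matrix.cons_val_one, neg_mul] at h4
      rw [add_neg_eq_zero] at h4
      obtain ⟨q, hq⟩ := hv _ ⟨_, h4⟩
      rw [Algebra.smul_def, hq, map_mul]
      exact dvd_mul_of_dvd_left (dvd_mul_right _ _) _
    obtain ⟨z', rfl⟩ := hdvd
    rw [hI, Ideal.mem_comap, Ideal.mem_span_singleton]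
    refine ⟨z', hreg ?_⟩
    show u • algebraMap A B e = u • (t * z')
    rw [Algebra.smul_def, Algebra.smul_def, ← map_mul, hz]
    ring
  choose e heI he using hex
  have ht' : t = ∑ j, algebraMap A B (e j) * y j := by
    refine hreg ?_
    show u • t = u • ∑ j, algebraMap A B (e j) * y j
    rw [Algebra.smul_def, Algebra.smul_def, ← hb, Finset.mul_sum]
    calc ∑ i, b i * algebraMap A B (g i) = ∑ i, ∑ j, algebraMap A B ((g i : A) * a (Sum.inl i) j) * y j := by
          refine Finset.sum_congr rfl fun i _ => ?_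
          rw [show b i = ∑ j, a (Sum.inl i) j • y j from hx (Sum.inl i), Finset.sum_mul]
          refine Finset.sum_congr rfl fun j _ => ?_
          rw [Algebra.smul_def, map_mul]
          ring
      _ = _ := by
          rw [Finset.sum_comm]
          refine Finset.sum_congr rfl fun j _ => ?_
          rw [← Finset.sum_mul, ← map_sum, he, map_mul, mul_assoc]
  rw [ht']
  exact Ideal.sum_mem _ fun j _ => Ideal.mul_mem_right _ _ (Ideal.mem_map_of_mem _ (heI j))

variable [IsLocalRing B]

/-- In depth two a principal ideal of `B` that comes from `A` on the punctured spectrum comes from `A`. -/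
theorem exists_generator (hd : (2 : ℕ∞) ≤ LocCoh.depth A A) {t : B} (ht : t ∈ nonZeroDivisors B)
    (h : ∀ q : Ideal B, q.IsPrime → ¬ (maximalIdeal A).map (algebraMap A B) ≤ q →
      ∃ s ∉ q, s * t ∈ ((Ideal.span {t}).comap (algebraMap A B)).map (algebraMap A B)) :
    ∃ a : A, Ideal.span {algebraMap A B a} = Ideal.span {t} := by
  classical
  set I := (Ideal.span {t}).comap (algebraMap A B) with hI
  obtain ⟨u, hum, v, hvm, hu, hv⟩ := exists_regular_pair hd
  let C : Ideal B := Submodule.comap (LinearMap.toSpanSingleton B B t) (I.map (algebraMap A B))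
  have hrad : (maximalIdeal A).map (algebraMap A B) ≤ C.radical := by
    rw [Ideal.radical_eq_sInf]
    refine le_sInf fun q hq => ?_
    by_contra hne
    obtain ⟨s, hs, hst⟩ := h q hq.2 hne
    exact hs (hq.1 hst)
  obtain ⟨N₁, hN₁⟩ := hrad (Ideal.mem_map_of_mem _ hum)
  obtain ⟨N₂, hN₂⟩ := hrad (Ideal.mem_map_of_mem _ hvm)
  obtain ⟨hu', hv'⟩ := S0335.pow_reg hu hv (N₁ + N₂)
  have hmem : ∀ (w : A) (N : ℕ), algebraMap A B w ^ N ∈ C → N ≤ N₁ + N₂ →
      algebraMap A B (w ^ (N₁ + N₂)) * t ∈ I.map (algebraMap A B) := fun w N hw hN => by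
    have := C.pow_mem_of_pow_mem hw hN
    rw [map_pow]
    exact this
  have htI := mem_map_comap hu' hv' ht (hmem u N₁ hN₁ (Nat.le_add_right _ _)) (hmem v N₂ hN₂ (Nat.le_add_left _ _))
  by_contra hne
  push Not at hne
  have hle : I.map (algebraMap A B) ≤ Ideal.span {t} * maximalIdeal B := Ideal.map_le_iff_le_comap.2 fun a ha => by
    obtain ⟨w, hw⟩ := Ideal.mem_span_singleton.1 (Ideal.mem_comap.1 ha)
    refine Ideal.mem_span_singleton_mul.2 ⟨w, (mem_maximalIdeal w).2 fun hwu => hne a ?_, hw.symm⟩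
    rw [hw]
    exact Ideal.span_singleton_mul_right_unit hwu t
  obtain ⟨w, hw, hwt⟩ := Ideal.mem_span_singleton_mul.1 (hle htI)
  refine (mem_maximalIdeal w).1 hw ?_
  have : w = 1 := (mul_cancel_left_mem_nonZeroDivisors ht).1 (hwt.trans (mul_one t).symm)
  rw [this]
  exact isUnit_one

/-- Two regular elements generating the same ideal on the punctured spectrum generate the same ideal. -/
theorem dvd_of_punctured (hd : (2 : ℕ∞) ≤ LocCoh.depth A A) {a b : A} (ha : a ∈ nonZeroDivisors A)
    (h : ∀ q : Ideal A, q.IsPrime → q ≠ maximalIdeal A → ∃ s ∉ q, a ∣ s * b) : a ∣ b := by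
  obtain ⟨u, hum, v, hvm, hu, hv⟩ := exists_regular_pair hd
  let C : Ideal A := Submodule.comap (LinearMap.toSpanSingleton A A b) (Ideal.span {a})
  have hrad : maximalIdeal A ≤ C.radical := by
    rw [Ideal.radical_eq_sInf]
    refine le_sInf fun q hq => ?_
    by_contra hne
    obtain ⟨s, hs, hst⟩ := h q hq.2 (fun e => hne (le_of_eq e.symm))
    exact hs (hq.1 (Ideal.mem_span_singleton.2 hst))
  obtain ⟨N₁, hN₁⟩ := hrad hum
  obtain ⟨N₂, hN₂⟩ := hrad hvm
  obtain ⟨hu', hv'⟩ := S0335.pow_reg hu hv (N₁ + N₂)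
  obtain ⟨c, hc⟩ := Ideal.mem_span_singleton.1 (show u ^ (N₁ + N₂) * b ∈ Ideal.span {a} from C.pow_mem_of_pow_mem hN₁ (Nat.le_add_right _ _))
  obtain ⟨d, hd'⟩ := Ideal.mem_span_singleton.1 (show v ^ (N₁ + N₂) * b ∈ Ideal.span {a} from C.pow_mem_of_pow_mem hN₂ (Nat.le_add_left _ _))
  have h3 : v ^ (N₁ + N₂) * c = u ^ (N₁ + N₂) * d := by
    refine (mul_cancel_left_mem_nonZeroDivisors ha).1 ?_
    linear_combination u ^ (N₁ + N₂) * hd' - v ^ (N₁ + N₂) * hc
  obtain ⟨c', rfl⟩ := hv' c ⟨d, h3⟩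
  refine ⟨c', sub_eq_zero.1 (hu' _ ?_)⟩
  rw [mul_sub, hc]
  ring

end Groth.Agent.DivDescLib
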