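import Groth.Agent.DivDescLib.Basic
import Groth.Agent.CubeLib.Sec
import Groth.Agent.PullbackMod.Flat
import Groth.Agent.FlatLocus.FibreCrit
import Groth.Agent.AffLim.Integral
import Groth.Prelude.Def_Pi1

/-!
# Invertible modules with a trivialisation over a generic point of the base
-/

set_option autoImplicit false
set_option backward.isDefEq.respectTransparency false
set_option linter.style.haveILetI false

universe u

open CategoryTheory CategoryTheory.Limits AlgebraicGeometry TopologicalSpace IsLocalRing Opposite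
open Groth.Agent.PullbackMod Groth.Agent.ParaFLib Groth.Agent.AmpleLib

noncomputable section

namespace Groth.Agent.DivDescLib

variable {X Y : Scheme.{u}} (f : X ⟶ Y)

theorem over_fibre (η : Y) (z : f.fiber η) : f (f.fiberι η z) = η := by
  have : f.fiberι η z ∈ f ⁻¹' {η} := by rw [← f.range_fiberι η]; exact ⟨z, rfl⟩
  exact this

theorem φ_germ {x : X} {y : Y} (h : f x ⤳ y) {V : Y.Opens} (hy : y ∈ V) (a : Γ(Y, V)) :
    φ f h (Y.presheaf.germ V y hy a) = X.presheaf.germ (f ⁻¹ᵁ V) x (h.mem_open V.2 hy) (f.app V a) := by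
  show f.stalkMap x (Y.presheaf.stalkSpecializes h (Y.presheaf.germ V y hy a)) = _
  erw [Y.presheaf.germ_stalkSpecializes_apply hy h a]
  exact Scheme.Hom.germ_stalkMap_apply f V x _ a

theorem isField_of_maximal {η : Y} [IsDomain (Y.presheaf.stalk η)] (hη : ∀ z : Y, z ⤳ η → z = η) :
    IsField (Y.presheaf.stalk η) := by
  rw [IsLocalRing.isField_iff_maximalIdeal_eq]
  obtain ⟨z, hz, hzP⟩ := exists_generisation η (⊥ : Ideal (Y.presheaf.stalk η))
  obtain rfl := hη z hz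
  rw [← hzP, TopCat.Presheaf.stalkSpecializes_refl]
  exact (Ideal.comap_id _).symm

theorem exists_maximal (y : Y) [IsDomain (Y.presheaf.stalk y)] : ∃ η : Y, η ⤳ y ∧ ∀ z : Y, z ⤳ η → z = η := by
  obtain ⟨η, hη, hP⟩ := exists_generisation y (⊥ : Ideal (Y.presheaf.stalk y))
  exact ⟨η, hη, fun z hz => (Specializes.antisymm hz
    (specializes_of_comap_le hη (hz.trans hη) (hP.trans_le bot_le))).eq⟩

theorem comap_eq_bot {η y : Y} [IsDomain (Y.presheaf.stalk y)] (hη : ∀ z : Y, z ⤳ η → z = η) (h : η ⤳ y) :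
    (maximalIdeal (Y.presheaf.stalk η)).comap (Y.presheaf.stalkSpecializes h).hom = ⊥ := by
  obtain ⟨η', hη', hP⟩ := exists_generisation y (⊥ : Ideal (Y.presheaf.stalk y))
  obtain rfl := hη η' (specializes_of_comap_le hη' h (hP.trans_le bot_le))
  exact hP

theorem maximal_unique {η η' y : Y} [IsDomain (Y.presheaf.stalk y)] (hη : ∀ z : Y, z ⤳ η → z = η)
    (hη' : ∀ z : Y, z ⤳ η' → z = η') (h : η ⤳ y) (h' : η' ⤳ y) : η = η' :=
  hη' η (specializes_of_comap_le h h' ((comap_eq_bot hη h).trans_le bot_le))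

theorem exists_nhd_maximal [IsLocallyNoetherian Y] (y : Y) [IsDomain (Y.presheaf.stalk y)] :
    ∃ W : Y.Opens, y ∈ W ∧ ∀ η : Y, η ⤳ y → (∀ z : Y, z ⤳ η → z = η) → ∀ z ∈ W, η ⤳ z := by
  obtain ⟨W, hyW, hW⟩ := AffLim.exists_isIntegral_nhd y
  refine ⟨W, hyW, fun η hηy hη z hz => ?_⟩
  have hs : ∀ z' : (W : Scheme.{u}), W.ι (genericPoint (W : Scheme.{u})) ⤳ W.ι z' := fun z' =>
    (genericPoint_specializes z').map W.ι.continuous
  obtain e : W.ι (genericPoint (W : Scheme.{u})) = η := hη _ (hs ⟨η, hηy.mem_open W.2 hyW⟩)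
  rw [← e]
  exact hs ⟨z, hz⟩

variable [Flat f]

/-- Germs vanishing at all generisations over the generic point vanish. -/
theorem eq_zero_of_generic {η : Y} (hη : ∀ z : Y, z ⤳ η → z = η) {x : X} [IsDomain (Y.presheaf.stalk (f x))]
    (h : η ⤳ f x) {b : X.presheaf.stalk x}
    (hb : ∀ (x' : X) (hx : x' ⤳ x), f x' = η → X.presheaf.stalkSpecializes hx b = 0) : b = 0 := by
  classical
  set ψ := φ f (specializes_refl (f x))
  let C : Ideal (X.presheaf.stalk x) := Submodule.comap (LinearMap.toSpanSingleton _ (X.presheaf.stalk x) b) ⊥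
  have hC : ∃ a ≠ (0 : Y.presheaf.stalk (f x)), ψ a ∈ C := by
    by_contra hne
    push Not at hne
    obtain ⟨q, hq, hCq, hdisj⟩ := Ideal.exists_le_prime_disjoint C
      ((nonZeroDivisors (Y.presheaf.stalk (f x))).map (ψ : Y.presheaf.stalk (f x) →* X.presheaf.stalk x))
      (Set.disjoint_left.2 fun r hr hr' => by
        obtain ⟨a, ha, rfl⟩ := hr'
        exact hne a (nonZeroDivisors.ne_zero ha) hr)
    obtain ⟨x', hx, hxq⟩ := exists_generisation x q
    have hx' : f x' = η := by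
      refine hη _ (specializes_of_comap_le (hx.map f.continuous) h fun c hc => ?_)
      rw [comap_eq_bot hη h, Ideal.mem_bot]
      by_contra hc0
      refine Set.disjoint_left.1 hdisj ?_ ⟨c, mem_nonZeroDivisors_of_ne_zero hc0, rfl⟩
      rw [SetLike.mem_coe, ← hxq, Ideal.mem_comap]
      show X.presheaf.stalkSpecializes hx (φ f (specializes_refl (f x)) c) ∈ _
      rw [← φ_gen, φ]
      exact map_nonunit (f.stalkMap x').hom _ hc
    letI := (X.presheaf.stalkSpecializes hx).hom.toAlgebra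
    haveI := S5090.isLocalization_stalkSpecializes hx
    obtain ⟨⟨s, hs⟩, hsb⟩ := (IsLocalization.map_eq_zero_iff
      ((maximalIdeal (X.presheaf.stalk x')).comap (X.presheaf.stalkSpecializes hx).hom).primeCompl
      (X.presheaf.stalk x') b).1 (hb x' hx hx')
    exact hs (hxq.symm ▸ hCq (show s * b = 0 from hsb))
  obtain ⟨a, ha, hab⟩ := hC
  letI := ψ.toAlgebra
  haveI : Module.Flat (Y.presheaf.stalk (f x)) (X.presheaf.stalk x) := φ_flat f _ rfl
  refine Module.Flat.isSMulRegular_of_nonZeroDivisors (M := X.presheaf.stalk x) (mem_nonZeroDivisors_of_ne_zero ha) ?_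
  show a • b = a • 0
  rw [smul_zero, Algebra.smul_def]
  exact hab

variable (L : X.Modules) (η : Y) (σ : Γ((Scheme.Modules.pullback (f.fiberι η)).obj L, ⊤))

omit [Flat f] in
/-- The section `e` restricts to `c` times the trivialisation on the generic fibre. -/
def Rel (W : X.Opens) (e : Γ(L, W)) (c : Y.presheaf.stalk η) : Prop :=
  ∀ (z : f.fiber η) (hz : f.fiberι η z ∈ W),
    pullStalk (f.fiberι η) L z (L.presheaf.germ W _ hz e) =
      (f.fiberι η).stalkMap z (φ f (specializes_of_eq (over_fibre f η z)) c) •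
        ((Scheme.Modules.pullback (f.fiberι η)).obj L).presheaf.germ ⊤ z trivial σ

omit [Flat f] in
/-- `c` times the trivialisation generates near `x`. -/
def Gd (x : X) (c : Y.presheaf.stalk η) : Prop :=
  c ≠ 0 ∧ ∃ (W : X.Opens) (e : Γ(L, W)), x ∈ W ∧ ParaFLib.Gen W e ∧ Rel f L η σ W e c

variable {f L η σ}

omit [Flat f] in
theorem Rel.res {W W' : X.Opens} {e : Γ(L, W)} {c : Y.presheaf.stalk η} (h : Rel f L η σ W e c) (hW : W' ≤ W) :
    Rel f L η σ W' (L.presheaf.map (homOfLE hW).op e) c := fun z hz => by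
  rw [TopCat.Presheaf.germ_res_apply]
  exact h z (hW hz)

omit [Flat f] in
theorem Rel.smul_germ {W : X.Opens} {e : Γ(L, W)} {c : Y.presheaf.stalk η} (h : Rel f L η σ W e c)
    (r : Γ(X, W)) (z : f.fiber η) (hz : f.fiberι η z ∈ W) :
    pullStalk (f.fiberι η) L z (L.presheaf.germ W _ hz (r • e)) =
      (f.fiberι η).stalkMap z (X.presheaf.germ W _ hz r * φ f (specializes_of_eq (over_fibre f η z)) c) •
        ((Scheme.Modules.pullback (f.fiberι η)).obj L).presheaf.germ ⊤ z trivial σ := by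
  rw [germ_smul', pullStalk_smul, h z hz, map_mul, mul_smul]

omit [Flat f] in
theorem Gd.spec {x x' : X} {c : Y.presheaf.stalk η} (h : Gd f L η σ x c) (hx : x' ⤳ x) : Gd f L η σ x' c :=
  let ⟨hc, W, e, hxW, he⟩ := h
  ⟨hc, W, e, hx.mem_open W.2 hxW, he⟩

omit [Flat f] in
theorem fibre_stalkMap_injective [IsDomain (Y.presheaf.stalk η)] (hη : ∀ z : Y, z ⤳ η → z = η) (z : f.fiber η) :
    Function.Injective ((f.fiberι η).stalkMap z) := by
  refine (RingHom.injective_iff_ker_eq_bot _).2 ?_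
  rw [FlatLocus.ker_fiberι_stalkMap]
  have key : ∀ y : Y, η = y → (maximalIdeal (Y.presheaf.stalk y)) = ⊥ := fun y e => by
    subst e
    exact IsLocalRing.isField_iff_maximalIdeal_eq.1 (isField_of_maximal hη)
  rw [key _ (over_fibre f η z).symm, Ideal.map_bot]

variable (hY : Pi1.IsNormalScheme Y) (hη : ∀ z : Y, z ⤳ η → z = η)
  (hσ : ParaFLib.Gen (⊤ : (f.fiber η).Opens) σ)

omit [Flat f] in
include hY hη in
theorem isUnit_generic {c : Y.presheaf.stalk η} (hc : c ≠ 0) : IsUnit c := by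
  haveI := (hY η).1
  obtain ⟨b, hb⟩ := (isField_of_maximal hη).mul_inv_cancel hc
  exact IsUnit.of_mul_eq_one b hb

include hY hη in
theorem toK_injective {y : Y} (h : η ⤳ y) : Function.Injective (Y.presheaf.stalkSpecializes h) := by
  haveI := (hY y).1
  refine (RingHom.injective_iff_ker_eq_bot _).2 (le_bot_iff.1 ?_)
  rw [← comap_eq_bot hη h]
  exact fun a ha => Ideal.mem_comap.2 ((RingHom.mem_ker.1 ha) ▸ Ideal.zero_mem _)

omit [Flat f] in
include hY hη in
theorem exists_frac {y : Y} (h : η ⤳ y) (k : Y.presheaf.stalk η) :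
    ∃ p q : Y.presheaf.stalk y, q ≠ 0 ∧ k * Y.presheaf.stalkSpecializes h q = Y.presheaf.stalkSpecializes h p := by
  letI := (Y.presheaf.stalkSpecializes h).hom.toAlgebra
  haveI := S5090.isLocalization_stalkSpecializes h
  obtain ⟨⟨p, q⟩, hpq⟩ := IsLocalization.surj
    ((maximalIdeal (Y.presheaf.stalk η)).comap (Y.presheaf.stalkSpecializes h).hom).primeCompl k
  exact ⟨p, q.1, fun h0 => q.2 (h0 ▸ Ideal.zero_mem _), hpq⟩

include hY hη hσ in
/-- Comparing two sections. -/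
theorem key {W : X.Opens} {e : Γ(L, W)} {r : Γ(X, W)} {c c' : Y.presheaf.stalk η} (hc : c ≠ 0)
    (h : Rel f L η σ W e c) (h' : Rel f L η σ W (r • e) c') {x : X} (hx : x ∈ W) (hηx : η ⤳ f x) :
    ∃ d, Y.presheaf.stalkSpecializes hηx d * c = c' ∧ X.presheaf.germ W x hx r = φ f (specializes_refl (f x)) d := by
  haveI := (hY η).1
  haveI := (hY (f x)).1
  have hcu := isUnit_generic hY hη hc
  obtain ⟨p, q, hq, hpq⟩ := exists_frac hY hη hηx (c' * ↑hcu.unit⁻¹)
  set ψ := φ f (specializes_refl (f x))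
  have h1 : ψ q * X.presheaf.germ W x hx r = ψ p := by
    rw [← sub_eq_zero]
    refine eq_zero_of_generic f hη hηx fun x' hx' hx'η => ?_
    obtain ⟨z, rfl⟩ : x' ∈ Set.range (f.fiberι η) := by rw [f.range_fiberι η]; exact hx'η
    have hz : f.fiberι η z ∈ W := hx'.mem_open W.2 hx
    set χ := φ f (specializes_of_eq (over_fibre f η z)) with hχ
    have e1 : ∀ a, X.presheaf.stalkSpecializes hx' (ψ a) = χ (Y.presheaf.stalkSpecializes hηx a) := fun a => by
      rw [← φ_gen, hχ, φ_spec]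
    have e2 : X.presheaf.germ W _ hz r * χ c = χ c' := by
      refine fibre_stalkMap_injective hη z ((hσ.bijective_germ z trivial).1 ?_)
      exact (h.smul_germ r z hz).symm.trans (h' z hz)
    rw [map_sub, map_mul, e1, e1, sub_eq_zero]
    erw [X.presheaf.germ_stalkSpecializes_apply hx hx' r]
    refine (hcu.map χ).mul_left_injective ?_
    show _ * χ c = χ _ * χ c
    rw [mul_assoc, e2, ← map_mul, ← map_mul, ← hpq, mul_comm (Y.presheaf.stalkSpecializes hηx q) c',
      show c' * ↑hcu.unit⁻¹ * Y.presheaf.stalkSpecializes hηx q * c = c' * Y.presheaf.stalkSpecializes hηx q * (↑hcu.unit⁻¹ * c) by ring,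
      hcu.val_inv_mul, mul_one]
  have hdvd : q ∣ p := by
    letI := ψ.toAlgebra
    haveI := φ_faithfullyFlat f (specializes_refl (f x)) rfl
    rw [← Ideal.mem_span_singleton, ← Ideal.comap_map_eq_self_of_faithfullyFlat (B := X.presheaf.stalk x) (Ideal.span {q}),
      Ideal.mem_comap, Ideal.map_span, Set.image_singleton, Ideal.mem_span_singleton]
    exact ⟨_, h1.symm⟩
  obtain ⟨d, rfl⟩ := hdvd
  refine ⟨d, ?_, ?_⟩
  · have h2 : c' * ↑hcu.unit⁻¹ = Y.presheaf.stalkSpecializes hηx d := by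
      refine mul_right_cancel₀ (fun h0 => hq (toK_injective hY hη hηx (h0.trans (map_zero _).symm))) ?_
      rw [hpq, map_mul, mul_comm]
    rw [← h2, mul_assoc, hcu.val_inv_mul, mul_one]
  · letI := ψ.toAlgebra
    haveI : Module.Flat (Y.presheaf.stalk (f x)) (X.presheaf.stalk x) := φ_flat f _ rfl
    refine Module.Flat.isSMulRegular_of_nonZeroDivisors (M := X.presheaf.stalk x) (mem_nonZeroDivisors_of_ne_zero hq) ?_
    show q • _ = q • _
    rw [Algebra.smul_def, Algebra.smul_def]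
    exact h1.trans (map_mul _ _ _)

include hY hη hσ in
/-- Two generating constants at a point differ by a unit. -/
theorem Gd.compare {x : X} {c c' : Y.presheaf.stalk η} (h : Gd f L η σ x c) (h' : Gd f L η σ x c') (hηx : η ⤳ f x) :
    ∃ d, IsUnit d ∧ Y.presheaf.stalkSpecializes hηx d * c = c' := by
  obtain ⟨hc, W, e, hxW, he, hR⟩ := h
  obtain ⟨hc', W', e', hxW', he', hR'⟩ := h'
  have h1 := hR.res (inf_le_left : W ⊓ W' ≤ W)
  have h2 := hR'.res (inf_le_right : W ⊓ W' ≤ W')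
  obtain ⟨r, hr, hre⟩ := (he'.res (inf_le_right : W ⊓ W' ≤ W')).exists_unit (he.res inf_le_left)
  rw [← hre] at h2
  obtain ⟨d, hd, hdr⟩ := key hY hη hσ hc h1 h2 ⟨hxW, hxW'⟩ hηx
  refine ⟨d, ?_, hd⟩
  haveI := φ_isLocalHom f (specializes_refl (f x)) rfl
  exact isUnit_of_map_unit (φ f (specializes_refl (f x))) d (hdr ▸ hr.map _)

include hY hη in
/-- Unit factors may be absorbed. -/
theorem Gd.smul {x : X} {c : Y.presheaf.stalk η} (h : Gd f L η σ x c) {y : Y} (e' : f x = y) (hηy : η ⤳ y)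
    {d : Y.presheaf.stalk y} (hd : IsUnit d) : Gd f L η σ x (Y.presheaf.stalkSpecializes hηy d * c) := by
  subst e'
  haveI := (hY η).1
  obtain ⟨hc, W, e, hxW, he, hR⟩ := h
  obtain ⟨V, hxV, a, rfl⟩ := Y.presheaf.exists_germ_eq d
  have hxB : f x ∈ Y.basicOpen a := (Y.mem_basicOpen a (f x) hxV).2 hd
  let W' := W ⊓ f ⁻¹ᵁ Y.basicOpen a
  let a' := Y.presheaf.map (homOfLE (Y.basicOpen_le a)).op a
  refine ⟨mul_ne_zero (hd.map (Y.presheaf.stalkSpecializes hηy).hom).ne_zero hc, W',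
    X.presheaf.map (homOfLE (inf_le_right : W' ≤ f ⁻¹ᵁ Y.basicOpen a)).op (f.app _ a') •
      L.presheaf.map (homOfLE (inf_le_left : W' ≤ W)).op e, ⟨hxW, hxB⟩,
    (he.res _).smul (((RingedSpace.isUnit_res_basicOpen _ a).map (f.app _).hom).map _), fun z hz => ?_⟩
  rw [(hR.res (inf_le_left : W' ≤ W)).smul_germ _ z hz, map_mul (φ f _)]
  congr 3
  rw [TopCat.Presheaf.germ_res_apply]
  erw [Y.presheaf.germ_stalkSpecializes_apply hxV hηy a]
  rw [← TopCat.Presheaf.germ_res_apply Y.presheaf (homOfLE (Y.basicOpen_le a)) η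
    (hηy.mem_open (Y.basicOpen a).2 hxB) a]
  exact (φ_germ f _ _ _).symm

include hY hη hσ in
/-- Constants agreeing at one point of a fibre agree on all of it. -/
theorem Gd.trans {x x₂ : X} {c c' : Y.presheaf.stalk η} (h : Gd f L η σ x c) (h' : Gd f L η σ x c')
    (h₂ : Gd f L η σ x₂ c) (e : f x₂ = f x) (hηx : η ⤳ f x) : Gd f L η σ x₂ c' := by
  obtain ⟨d, hd, rfl⟩ := h.compare hY hη hσ h' hηx
  exact h₂.smul hY hη e hηx hd

include hY hη hσ in
omit [Flat f] in
/-- Some multiple of the trivialisation extends near every point. -/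
theorem exists_ext (hL : PicF.IsInvertible L) (x : X) (hηx : η ⤳ f x) :
    ∃ (W : X.Opens) (e : Γ(L, W)) (r : Γ(X, W)) (a : Y.presheaf.stalk (f x)), x ∈ W ∧ ParaFLib.Gen W e ∧ a ≠ 0 ∧
      Rel f L η σ W (r • e) (Y.presheaf.stalkSpecializes hηx a) := by
  haveI := (hY η).1
  haveI := Groth.Agent.InvExt.isQCoh_of_isInvertible hL
  obtain ⟨_, ⟨V : Y.Opens, hV, rfl⟩, hxV, -⟩ :=
    Y.isBasis_affineOpens.exists_subset_of_mem_open (Set.mem_univ (f x)) isOpen_univ
  obtain ⟨W₀, e₀, hxW₀, he₀⟩ := exists_gen_nhd hL x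
  obtain ⟨_, ⟨W : X.Opens, hW, rfl⟩, hxW, hWsub⟩ :=
    X.isBasis_affineOpens.exists_subset_of_mem_open (show x ∈ W₀ ⊓ f ⁻¹ᵁ V from ⟨hxW₀, hxV⟩) (W₀ ⊓ f ⁻¹ᵁ V).2
  have hWW₀ : W ≤ W₀ := fun w hw => (hWsub hw).1
  have hWV : W ≤ f ⁻¹ᵁ V := fun w hw => (hWsub hw).2
  have hηV : η ∈ V := hηx.mem_open V.2 hxV
  let g := Y.fromSpecResidueField η
  have hgV : (⊤ : (Spec (Y.residueField η)).Opens) ≤ g ⁻¹ᵁ V := fun p _ => by
    show g p ∈ V
    rw [Scheme.fromSpecResidueField_apply]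
    exact hηV
  let W' : (f.fiber η).Opens := f.fiberι η ⁻¹ᵁ W ⊓ f.fiberToSpecResidueField η ⁻¹ᵁ ⊤
  obtain ⟨-, hpo⟩ := isPushout_appLE (IsPullback.of_hasPullback f g) hV hW (isAffineOpen_top _) hWV hgV
  let e := L.presheaf.map (homOfLE hWW₀).op e₀
  have hGe : ParaFLib.Gen W e := he₀.res hWW₀
  have eW : W' ≤ f.fiberι η ⁻¹ᵁ W := inf_le_left
  obtain ⟨u, hu⟩ := (CubeLib.gen_pullMap (f.fiberι η) hL hGe eW W' le_rfl).2
    (((Scheme.Modules.pullback (f.fiberι η)).obj L).presheaf.map (homOfLE (le_top : W' ≤ ⊤)).op σ)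
  change u • _ = _ at hu
  rw [ParaFLib.res_self] at hu
  letI : Algebra Γ(Y, V) Γ(X, W) := (f.appLE V W hWV).hom.toAlgebra
  letI : Algebra Γ(Y, V) Γ(Spec (Y.residueField η), ⊤) := (g.appLE V ⊤ hgV).hom.toAlgebra
  letI : Algebra Γ(X, W) Γ(f.fiber η, W') := ((f.fiberι η).appLE W W' eW).hom.toAlgebra
  letI : Algebra Γ(Spec (Y.residueField η), ⊤) Γ(f.fiber η, W') :=
    ((f.fiberToSpecResidueField η).appLE ⊤ W' inf_le_right).hom.toAlgebra
  letI : Algebra Γ(Y, V) Γ(f.fiber η, W') :=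
    (((f.fiberι η).appLE W W' eW).hom.comp (f.appLE V W hWV).hom).toAlgebra
  haveI : IsScalarTower Γ(Y, V) Γ(X, W) Γ(f.fiber η, W') := .of_algebraMap_eq fun _ => rfl
  haveI : IsScalarTower Γ(Y, V) Γ(Spec (Y.residueField η), ⊤) Γ(f.fiber η, W') := .of_algebraMap_eq' (by
    show ((f.appLE V W hWV) ≫ (f.fiberι η).appLE W W' eW).hom =
      ((g.appLE V ⊤ hgV) ≫ (f.fiberToSpecResidueField η).appLE ⊤ W' inf_le_right).hom
    simp only [Scheme.Hom.appLE_comp_appLE]
    congr 2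
    exact pullback.condition)
  haveI hpo' : Algebra.IsPushout Γ(Y, V) Γ(Spec (Y.residueField η), ⊤) Γ(X, W) Γ(f.fiber η, W') := hpo
  have hmul : ∀ q₁ q₂ : Γ(Y, V), Y.presheaf.germ V η hηV q₁ ≠ 0 → Y.presheaf.germ V η hηV q₂ ≠ 0 →
      Y.presheaf.germ V η hηV (q₁ * q₂) ≠ 0 := fun q₁ q₂ h₁ h₂ => by rw [map_mul]; exact mul_ne_zero h₁ h₂
  have hk : ∀ k : Γ(Spec (Y.residueField η), ⊤), ∃ p q : Γ(Y, V), Y.presheaf.germ V η hηV q ≠ 0 ∧
      g.appLE V ⊤ hgV q * k = g.appLE V ⊤ hgV p := by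
    intro k
    let pt : Spec (Y.residueField η) := IsLocalRing.closedPoint (Y.residueField η)
    have hpt : g pt = η := Scheme.fromSpecResidueField_apply _ _
    obtain ⟨a, ha⟩ := g.stalkMap_surjective pt ((Spec (Y.residueField η)).presheaf.germ ⊤ pt trivial k)
    letI : Algebra Γ(Y, V) (Y.presheaf.stalk (g pt)) := TopCat.Presheaf.algebra_section_stalk Y.presheaf ⟨g pt, hgV trivial⟩
    haveI := hV.isLocalization_stalk ⟨g pt, hgV trivial⟩
    obtain ⟨⟨p, q⟩, hpq⟩ := IsLocalization.surj (hV.primeIdealOf ⟨g pt, hgV trivial⟩).asIdeal.primeCompl a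
    refine ⟨p, q.1, ?_, ?_⟩
    · have hne : ∀ (η' : Y) (h' : η' ∈ V), η = η' → IsUnit (Y.presheaf.germ V η' h' q.1) →
          Y.presheaf.germ V η hηV q.1 ≠ 0 := fun η' h' e hu => by subst e; exact hu.ne_zero
      exact hne _ (hgV trivial) hpt.symm
        (IsLocalization.map_units (Y.presheaf.stalk (g pt)) q)
    · haveI : Subsingleton (Spec (Y.residueField η)) := inferInstanceAs (Subsingleton (PrimeSpectrum _))
      refine TopCat.Presheaf.section_ext (Spec (Y.residueField η)).sheaf ⊤ _ _ fun pt' _ => ?_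
      obtain rfl := Subsingleton.elim pt pt'
      show (Spec (Y.residueField η)).presheaf.germ ⊤ pt trivial _ = (Spec (Y.residueField η)).presheaf.germ ⊤ pt trivial _
      rw [map_mul, ← germ_stalkMap_appLE g pt (hgV trivial) (Opens.mem_top pt) hgV, ← germ_stalkMap_appLE g pt (hgV trivial) (Opens.mem_top pt) hgV,
        ← ha, ← map_mul]
      refine congrArg _ ?_
      rw [mul_comm]
      exact hpq
  obtain ⟨q, hq, r, hr⟩ : ∃ q : Γ(Y, V), Y.presheaf.germ V η hηV q ≠ 0 ∧ ∃ r : Γ(X, W),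
      algebraMap Γ(Y, V) Γ(f.fiber η, W') q * u = algebraMap Γ(X, W) Γ(f.fiber η, W') r := by
    clear hu
    induction u using hpo'.out.inductionOn with
    | zero => exact ⟨1, by simp, 0, by simp⟩
    | tmul m => exact ⟨1, by simp, m, by simp⟩
    | smul k m hm =>
      obtain ⟨q, hq, r, hr⟩ := hm
      obtain ⟨p, q', hq', hpq⟩ := hk k
      refine ⟨q' * q, hmul _ _ hq' hq, algebraMap Γ(Y, V) Γ(X, W) p * r, ?_⟩
      have h1 : algebraMap Γ(Y, V) Γ(f.fiber η, W') q' *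
          algebraMap Γ(Spec (Y.residueField η), ⊤) Γ(f.fiber η, W') k = algebraMap Γ(Y, V) Γ(f.fiber η, W') p := by
        rw [IsScalarTower.algebraMap_apply Γ(Y, V) Γ(Spec (Y.residueField η), ⊤) Γ(f.fiber η, W'),
          IsScalarTower.algebraMap_apply Γ(Y, V) Γ(Spec (Y.residueField η), ⊤) Γ(f.fiber η, W') p, ← map_mul]
        exact congrArg _ hpq
      rw [Algebra.smul_def, map_mul, map_mul, ← hr, ← IsScalarTower.algebraMap_apply, ← h1]
      ring
    | add u v hu hv =>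
      obtain ⟨q, hq, r, hr⟩ := hu
      obtain ⟨q', hq', r', hr'⟩ := hv
      refine ⟨q * q', hmul _ _ hq hq', algebraMap Γ(Y, V) Γ(X, W) q' * r + algebraMap Γ(Y, V) Γ(X, W) q * r', ?_⟩
      rw [map_add, map_mul, map_mul, map_mul, ← hr, ← hr', ← IsScalarTower.algebraMap_apply,
        ← IsScalarTower.algebraMap_apply]
      ring
  refine ⟨W, e, r, Y.presheaf.germ V (f x) hxV q, hxW, hGe, fun h0 => hq ?_, fun z hz => ?_⟩
  · rw [← Y.presheaf.germ_stalkSpecializes_apply hxV hηx q]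
    exact (congrArg (Y.presheaf.stalkSpecializes hηx) h0).trans (map_zero _)
  have hz' : z ∈ W' := ⟨hz, trivial⟩
  rw [pullStalk_germ' (f.fiberι η) L z hz hz' eW, pullMap_smul]
  erw [Y.presheaf.germ_stalkSpecializes_apply hxV hηx q]
  rw [show (f.fiberι η).appLE W W' eW r = algebraMap Γ(X, W) Γ(f.fiber η, W') r from rfl, ← hr, mul_smul, hu,
    germ_smul', TopCat.Presheaf.germ_res_apply, φ_germ,
    germ_stalkMap_appLE (f.fiberι η) z (W := f ⁻¹ᵁ V) (hWV hz) hz' (eW.trans ((f.fiberι η).preimage_mono hWV))]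
  congr 2
  show (f.fiberι η).appLE W W' eW (f.appLE V W hWV q) = _
  rw [← Scheme.Hom.map_appLE (f.fiberι η) eW (homOfLE hWV).op, Scheme.Hom.appLE]
  rfl

end Groth.Agent.DivDescLib
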