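import Groth.Agent.DivDescLib.ModRel
import Groth.Agent.SerreLib.Normal
import Groth.Agent.S3839

/-!
# Generating constants at every point of a normal base
-/

set_option autoImplicit false
set_option backward.isDefEq.respectTransparency false
set_option linter.style.haveILetI false

universe u

open CategoryTheory CategoryTheory.Limits AlgebraicGeometry TopologicalSpace IsLocalRing Opposite
open Groth.Agent.PullbackMod Groth.Agent.ParaFLib Groth.Agent.AmpleLib

noncomputable section

namespace Groth.Agent.DivDescLib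

variable {X Y : Scheme.{u}} {f : X ⟶ Y} [Flat f] {L : X.Modules} {η : Y}
  {σ : Γ((Scheme.Modules.pullback (f.fiberι η)).obj L, ⊤)}
  (hY : Pi1.IsNormalScheme Y) (hη : ∀ z : Y, z ⤳ η → z = η) (hσ : ParaFLib.Gen (⊤ : (f.fiber η).Opens) σ)
  (hL : PicF.IsInvertible L)

include hY hη hσ in
omit [Flat f] in
/-- The coefficient of a multiple of the trivialisation is invertible over the generic point. -/
theorem isUnit_coeff {W : X.Opens} {e : Γ(L, W)} {r : Γ(X, W)} {c : Y.presheaf.stalk η} (hc : c ≠ 0)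
    (he : ParaFLib.Gen W e) (h : Rel f L η σ W (r • e) c) {x : X} (hx : x ∈ W) (hxη : f x = η) :
    IsUnit (X.presheaf.germ W x hx r) := by
  obtain ⟨z, rfl⟩ : x ∈ Set.range (f.fiberι η) := by rw [f.range_fiberι η]; exact hxη
  have hu : IsUnit ((f.fiberι η).stalkMap z (φ f (specializes_of_eq (over_fibre f η z)) c)) :=
    ((isUnit_generic hY hη hc).map _).map _
  obtain ⟨v, hv⟩ := (hσ.bijective_germ z trivial).2 (pullStalk (f.fiberι η) L z (L.presheaf.germ W _ hx e))
  have h' := h z hx
  rw [germ_smul', pullStalk_smul, ← hv, ← mul_smul] at h'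
  exact isUnit_of_map_unit ((f.fiberι η).stalkMap z).hom _
    (isUnit_of_mul_isUnit_left (((hσ.bijective_germ z trivial).1 h') ▸ hu :
      IsUnit (((f.fiberι η).stalkMap z) (X.presheaf.germ W _ hx r) * v)))

include hY hη hσ in
theorem coeff_mem_nonZeroDivisors {W : X.Opens} {e : Γ(L, W)} {r : Γ(X, W)} {c : Y.presheaf.stalk η} (hc : c ≠ 0)
    (he : ParaFLib.Gen W e) (h : Rel f L η σ W (r • e) c) {x : X} (hx : x ∈ W) (hηx : η ⤳ f x) :
    X.presheaf.germ W x hx r ∈ nonZeroDivisors (X.presheaf.stalk x) := by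
  haveI := (hY (f x)).1
  refine mem_nonZeroDivisors_iff_right.2 fun b hb => eq_zero_of_generic f hη hηx fun x' hx' hx'η => ?_
  have h1 := congrArg (X.presheaf.stalkSpecializes hx') hb
  rw [map_mul, map_zero] at h1
  erw [X.presheaf.germ_stalkSpecializes_apply hx hx' r] at h1
  exact (isUnit_coeff hY hη hσ hc he h (hx'.mem_open W.2 hx) hx'η).mul_left_eq_zero.1 h1

include hY hη hσ in
/-- A coefficient associated to an element from the base gives a generating constant. -/
theorem Gd.of_coeff {W : X.Opens} {e : Γ(L, W)} {r : Γ(X, W)} {x : X} (hx : x ∈ W) (hηx : η ⤳ f x)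
    {a a₁ : Y.presheaf.stalk (f x)} (ha : a ≠ 0) (he : ParaFLib.Gen W e)
    (h : Rel f L η σ W (r • e) (Y.presheaf.stalkSpecializes hηx a))
    (hs : Ideal.span {φ f (specializes_refl (f x)) a₁} = Ideal.span {X.presheaf.germ W x hx r}) :
    ∃ c, c * Y.presheaf.stalkSpecializes hηx a₁ = Y.presheaf.stalkSpecializes hηx a ∧ Gd f L η σ x c := by
  haveI := (hY η).1
  haveI : Nontrivial (X.presheaf.stalk x) := inferInstance
  have ha' : Y.presheaf.stalkSpecializes hηx a ≠ 0 := fun h0 => ha (toK_injective hY hη hηx (h0.trans (map_zero _).symm))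
  have hnz := coeff_mem_nonZeroDivisors hY hη hσ ha' he h hx hηx
  have ha₁ : a₁ ≠ 0 := fun h0 => by
    rw [h0, map_zero, Ideal.span_singleton_eq_bot.2 rfl, eq_comm, Ideal.span_singleton_eq_bot] at hs
    exact nonZeroDivisors.ne_zero hnz hs
  have ha₁' : Y.presheaf.stalkSpecializes hηx a₁ ≠ 0 := fun h0 => ha₁ (toK_injective hY hη hηx (h0.trans (map_zero _).symm))
  have hu := isUnit_generic hY hη ha₁'
  have hc : Y.presheaf.stalkSpecializes hηx a * ↑hu.unit⁻¹ * Y.presheaf.stalkSpecializes hηx a₁ =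
      Y.presheaf.stalkSpecializes hηx a := by rw [mul_assoc, hu.val_inv_mul, mul_one]
  refine ⟨_, hc, mul_ne_zero ha' (Units.ne_zero _), ?_⟩
  obtain ⟨s, hs'⟩ := Ideal.mem_span_singleton.1 (hs.ge (Ideal.mem_span_singleton_self _))
  obtain ⟨t, ht⟩ := Ideal.mem_span_singleton.1 (hs.le (Ideal.mem_span_singleton_self _))
  have hsu : IsUnit s := by
    refine IsUnit.of_mul_eq_one t ((mul_cancel_left_mem_nonZeroDivisors hnz).1 ?_)
    calc X.presheaf.germ W x hx r * (s * t) = (X.presheaf.germ W x hx r * t) * s := by ring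
      _ = φ f (specializes_refl (f x)) a₁ * s := by rw [← ht]
      _ = X.presheaf.germ W x hx r * 1 := by rw [← hs', mul_one]
  obtain ⟨V, hxV, a₀, rfl⟩ := Y.presheaf.exists_germ_eq a₁
  obtain ⟨O, hxO, s₀, rfl⟩ := X.presheaf.exists_germ_eq s
  rw [φ_germ] at hs'
  let W₁ := W ⊓ (f ⁻¹ᵁ V) ⊓ X.basicOpen s₀
  have hxW₁ : x ∈ W₁ := ⟨⟨hx, hxV⟩, (X.mem_basicOpen s₀ x hxO).2 hsu⟩
  have i₁ : W₁ ≤ W := inf_le_left.trans inf_le_left
  have i₂ : W₁ ≤ f ⁻¹ᵁ V := inf_le_left.trans inf_le_right
  have i₃ : W₁ ≤ X.basicOpen s₀ := inf_le_right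
  have e₁ : X.presheaf.germ W₁ x hxW₁ (X.presheaf.map (homOfLE i₁).op r) =
      X.presheaf.germ W₁ x hxW₁ (X.presheaf.map (homOfLE i₂).op (f.app V a₀) *
        X.presheaf.map (homOfLE (i₃.trans (X.basicOpen_le s₀))).op s₀) := by
    rw [map_mul, TopCat.Presheaf.germ_res_apply, TopCat.Presheaf.germ_res_apply, TopCat.Presheaf.germ_res_apply]
    exact hs'
  obtain ⟨W₂, hxW₂, j, j', h₂⟩ := X.presheaf.germ_eq x hxW₁ hxW₁ _ _ e₁
  let v := X.presheaf.map (homOfLE (j.le.trans (i₃.trans (X.basicOpen_le s₀)))).op s₀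
  refine ⟨W₂, v • L.presheaf.map (homOfLE (j.le.trans i₁)).op e, hxW₂, (he.res _).smul ?_, fun z hz => ?_⟩
  · have : v = X.presheaf.map (homOfLE (j.le.trans i₃)).op (X.presheaf.map (homOfLE (X.basicOpen_le s₀)).op s₀) := by
      rw [← ConcreteCategory.comp_apply, ← Functor.map_comp]
      rfl
    rw [this]
    exact (RingedSpace.isUnit_res_basicOpen _ s₀).map _
  set χ := φ f (specializes_of_eq (over_fibre f η z)) with hχ
  have hzW : f.fiberι η z ∈ W := i₁ (j.le hz)
  have h₂' := congrArg (X.presheaf.germ W₂ _ hz) h₂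
  rw [TopCat.Presheaf.germ_res_apply, TopCat.Presheaf.germ_res_apply, TopCat.Presheaf.germ_res_apply, map_mul,
    TopCat.Presheaf.germ_res_apply, TopCat.Presheaf.germ_res_apply] at h₂'
  have h0 := h z hzW
  rw [germ_smul', pullStalk_smul, h₂', map_mul, mul_smul, ← hc, map_mul χ, map_mul, mul_comm ((f.fiberι η).stalkMap z (χ _)),
    mul_smul] at h0
  rw [germ_smul', pullStalk_smul, TopCat.Presheaf.germ_res_apply, TopCat.Presheaf.germ_res_apply]
  refine ((((hu.map χ).map ((f.fiberι η).stalkMap z).hom)).smul_left_cancel.1 ?_)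
  refine Eq.trans ?_ h0
  congr 2
  erw [Y.presheaf.germ_stalkSpecializes_apply hxV hηx a₀]
  rw [hχ, φ_germ]

variable (f L η σ) in
omit [Flat f] in
/-- `c` generates on the fibre over `y`. -/
def Good (y : Y) (c : Y.presheaf.stalk η) : Prop :=
  ∀ x : X, f x = y → Gd f L η σ x c

include hY hη hσ in
/-- A constant good at one point over `y` generates above the proper generisations of `y`. -/
theorem gd_generisation {y' : Y} {x₀ x : X} {c c' : Y.presheaf.stalk η} (h : Gd f L η σ x₀ c)
    (h' : Good f L η σ y' c') (hy : y' ⤳ f x₀) (hx : f x = y') (hηy : η ⤳ y') : Gd f L η σ x c := by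
  obtain ⟨x₁, hx₁, e₁⟩ := Flat.generalizingMap f hy
  subst hx
  exact (h' x₁ e₁).trans hY hη hσ (h.spec hx₁) (h' x rfl) e₁.symm (hηy.trans (specializes_of_eq e₁.symm))

include hY hη hσ hL in
theorem exists_good_generic : ∃ c, Good f L η σ η c := by
  haveI := (hY η).1
  refine ⟨1, fun x hx => ?_⟩
  subst hx
  obtain ⟨W, e, r, a, hxW, he, ha, hR⟩ := exists_ext hY hη hσ hL x (specializes_refl (f x))
  have ha' : Y.presheaf.stalkSpecializes (specializes_refl (f x)) a = a := by
    rw [TopCat.Presheaf.stalkSpecializes_refl]; rfl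
  have hu := isUnit_generic hY hη ha
  obtain ⟨c, hc, hg⟩ := Gd.of_coeff hY hη hσ hxW (specializes_refl (f x)) ha he hR (a₁ := 1) (by
    rw [map_one, Ideal.span_singleton_one, Ideal.span_singleton_eq_top.2
      (isUnit_coeff hY hη hσ (ha'.symm ▸ ha) he hR hxW rfl)])
  rw [map_one, mul_one, ha'] at hc
  subst hc
  have := hg.smul hY hη rfl (specializes_refl (f x)) (d := ↑hu.unit⁻¹) (Units.isUnit _)
  rwa [TopCat.Presheaf.stalkSpecializes_refl, show (𝟙 (Y.presheaf.stalk (f x))) (↑hu.unit⁻¹ : Y.presheaf.stalk (f x)) * c = 1 from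
    hu.val_inv_mul] at this

include hY hη hσ hL in
/-- Points of codimension one. -/
theorem exists_good_one {y : Y} [IsDomain (Y.presheaf.stalk y)] [IsDiscreteValuationRing (Y.presheaf.stalk y)] (hηy : η ⤳ y) [IsIntegral (f.fiber y)]
    (hgen : ∀ z : Y, z ⤳ y → z ≠ y → z = η) : ∃ c, Good f L η σ y c := by
  haveI := (hY η).1
  obtain ⟨π, hπ⟩ := IsDiscreteValuationRing.exists_irreducible (Y.presheaf.stalk y)
  have hone : ∀ (x : X), f x = y → ∃ c, Gd f L η σ x c := by
    intro x e
    subst e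
    obtain ⟨W, ew, r, a, hxW, he, ha, hR⟩ := exists_ext hY hη hσ hL x hηy
    have ha' : Y.presheaf.stalkSpecializes hηy a ≠ 0 := fun h0 => ha (toK_injective hY hη hηy (h0.trans (map_zero _).symm))
    set t := X.presheaf.germ W x hxW r
    set h : f x ⤳ f x := specializes_refl (f x)
    have hnz : φ f h π ∈ nonZeroDivisors (X.presheaf.stalk x) := by
      letI := (φ f h).toAlgebra
      haveI : Module.Flat (Y.presheaf.stalk (f x)) (X.presheaf.stalk x) := φ_flat f h rfl
      have hr : IsSMulRegular (X.presheaf.stalk x) π :=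
        Module.Flat.isSMulRegular_of_nonZeroDivisors (mem_nonZeroDivisors_of_ne_zero hπ.ne_zero)
      refine mem_nonZeroDivisors_iff_right.2 fun s hs => hr ?_
      show π • s = π • 0
      rw [smul_zero, Algebra.smul_def]
      exact (mul_comm _ _).trans hs
    have hprime : (Ideal.span {φ f h π}).IsPrime := by
      obtain ⟨z, hz⟩ : x ∈ Set.range (f.fiberι (f x)) := by rw [f.range_fiberι (f x)]; exact rfl
      have key : ∀ (y : Y) (π : Y.presheaf.stalk y) (x : X) (h : f x ⤳ y) (e : f x = y),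
          maximalIdeal (Y.presheaf.stalk y) = Ideal.span {π} →
          (maximalIdeal (Y.presheaf.stalk (f x))).map (f.stalkMap x).hom = Ideal.span {φ f h π} := by
        intro y π x h e hm
        subst e
        rw [hm, Ideal.map_span, Set.image_singleton, φ_refl]
      have key' : ∀ (z : f.fiber (f x)) (x₁ : X) (hz : f.fiberι _ z = x₁) (h : f x₁ ⤳ f x) (e : f x₁ = f x),
          (Ideal.span {φ f h π}).IsPrime := by
        intro z x₁ hz h e
        subst hz
        rw [← key _ π _ h e hπ.maximalIdeal_eq, ← FlatLocus.ker_fiberι_stalkMap f (f x) z]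
        exact RingHom.ker_isPrime _
      exact key' z x hz h rfl
    obtain ⟨k, hk⟩ : φ f h π ∈ (Ideal.span {t}).radical := by
      rw [Ideal.radical_eq_sInf]
      refine Ideal.mem_sInf.2 ?_
      rintro q ⟨htq, hq⟩
      by_contra hπq
      haveI := hq
      obtain ⟨x', hx, hxq⟩ := exists_generisation x q
      have hy' : f x' ⤳ f x := hx.map f.continuous
      have hne : f x' ≠ f x := fun e' => hπq (by
        rw [← hxq, Ideal.mem_comap]
        show X.presheaf.stalkSpecializes hx (φ f h π) ∈ _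
        rw [← φ_gen]
        haveI := φ_isLocalHom f hy' e'
        exact map_nonunit (φ f hy') π hπ.not_isUnit)
      have h6 : t ∈ q := htq (Ideal.mem_span_singleton_self t)
      rw [← hxq, Ideal.mem_comap] at h6
      erw [X.presheaf.germ_stalkSpecializes_apply hxW hx r] at h6
      exact (mem_maximalIdeal _).1 h6 (isUnit_coeff hY hη hσ ha' he hR (hx.mem_open W.2 hxW) (hgen _ hy' hne))
    obtain ⟨n, hn⟩ := S3839.eq_unit_mul_pow hnz hprime k t (Ideal.mem_span_singleton.1 hk)
    obtain ⟨c, -, hc⟩ := Gd.of_coeff hY hη hσ hxW hηy ha he hR (a₁ := π ^ n) (by rw [map_pow]; exact hn.symm)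
    exact ⟨c, hc⟩
  let ξ : f.fiber y := genericPoint (f.fiber y)
  have hξ : f (f.fiberι y ξ) = y := over_fibre f y ξ
  obtain ⟨c, hc⟩ := hone _ hξ
  refine ⟨c, fun x e => ?_⟩
  obtain ⟨c', hc'⟩ := hone x e
  obtain ⟨z, rfl⟩ : x ∈ Set.range (f.fiberι y) := by rw [f.range_fiberι y]; exact e
  exact (hc'.spec (((genericPoint_specializes z).map (f.fiberι y).continuous))).trans hY hη hσ hc hc'
    (e.trans hξ.symm) (hηy.trans (specializes_of_eq hξ.symm))

include hY hη hσ hL in
/-- Points of depth at least two. -/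
theorem exists_good_two [IsLocallyNoetherian Y] [Surjective f] {y : Y} (hηy : η ⤳ y)
    (hd : (2 : ℕ∞) ≤ LocCoh.depth (Y.presheaf.stalk y) (Y.presheaf.stalk y))
    (hP : ∀ y' : Y, η ⤳ y' → y' ⤳ y → y' ≠ y → ∃ c, Good f L η σ y' c) : ∃ c, Good f L η σ y c := by
  classical
  haveI := (hY η).1
  haveI := (hY y).1
  have hgen : ∀ z : Y, z ⤳ y → η ⤳ z := fun z hz => by
    haveI := (hY z).1
    obtain ⟨η', hη', hmax⟩ := exists_maximal z
    rwa [maximal_unique hη hmax hηy (hη'.trans hz)]
  have hone : ∀ (x : X), f x = y → ∃ c, Gd f L η σ x c := by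
    intro x e
    subst e
    obtain ⟨W, ew, r, a, hxW, he, ha, hR⟩ := exists_ext hY hη hσ hL x hηy
    have ha' : Y.presheaf.stalkSpecializes hηy a ≠ 0 := fun h0 => ha (toK_injective hY hη hηy (h0.trans (map_zero _).symm))
    have htn := coeff_mem_nonZeroDivisors hY hη hσ ha' he hR hxW hηy
    set t := X.presheaf.germ W x hxW r with htdef
    set h : f x ⤳ f x := specializes_refl (f x)
    letI := (φ f h).toAlgebra
    haveI : Module.Flat (Y.presheaf.stalk (f x)) (X.presheaf.stalk x) := φ_flat f h rfl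
    obtain ⟨a₁, ha₁⟩ := exists_generator hd htn fun q hq hqm => by
      haveI := hq
      obtain ⟨x', hx, hxq⟩ := exists_generisation x q
      have hy' : f x' ⤳ f x := hx.map f.continuous
      have hne : f x' ≠ f x := fun e' => hqm (Ideal.map_le_iff_le_comap.2 fun c hc => by
        rw [← hxq, Ideal.mem_comap, Ideal.mem_comap]
        show X.presheaf.stalkSpecializes hx (φ f h c) ∈ _
        rw [← φ_gen]
        haveI := φ_isLocalHom f hy' e'
        exact map_nonunit (φ f hy') c hc)
      have hηy' := hgen _ hy'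
      obtain ⟨c', hc'⟩ := hP (f x') hηy' hy' hne
      -- the coefficient at a point where `c'` generates
      have hb : ∀ (x'' : X) (hx'' : x'' ⤳ x), Gd f L η σ x'' c' → ∀ h'' : η ⤳ f x'',
          ∃ d, Y.presheaf.stalkSpecializes h'' d * c' = Y.presheaf.stalkSpecializes hηy a ∧
            Ideal.span {X.presheaf.stalkSpecializes hx'' t} = Ideal.span {φ f (specializes_refl (f x'')) d} := by
        rintro x'' hx'' ⟨hc0, W', e', hxW', he', hR'⟩ h''
        have hm : x'' ∈ W ⊓ W' := ⟨hx''.mem_open W.2 hxW, hxW'⟩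
        obtain ⟨v, hv, hve⟩ := (he.res (inf_le_left : W ⊓ W' ≤ W)).exists_unit (he'.res inf_le_right)
        have h1 := hR.res (inf_le_left : W ⊓ W' ≤ W)
        rw [L.map_smul, ← hve, ← mul_smul] at h1
        obtain ⟨d, hd₁, hd₂⟩ := key hY hη hσ hc0 (hR'.res (inf_le_right : W ⊓ W' ≤ W')) h1 hm h''
        refine ⟨d, hd₁, ?_⟩
        rw [← hd₂, map_mul, TopCat.Presheaf.germ_res_apply, Ideal.span_singleton_mul_right_unit (hv.map _)]
        erw [X.presheaf.germ_stalkSpecializes_apply hxW hx'' r]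
      obtain ⟨b, hbc, hbt⟩ := hb x' hx (hc' x' rfl) hηy'
      letI := (Y.presheaf.stalkSpecializes hy').hom.toAlgebra
      haveI := S5090.isLocalization_stalkSpecializes hy'
      let p := (maximalIdeal (Y.presheaf.stalk (f x'))).comap (Y.presheaf.stalkSpecializes hy').hom
      obtain ⟨⟨a₀, w⟩, hw⟩ := IsLocalization.surj p.primeCompl b
      have hspan : Ideal.span {Y.presheaf.stalkSpecializes hy' a₀} = Ideal.span {b} := by
        change b * Y.presheaf.stalkSpecializes hy' w.1 = Y.presheaf.stalkSpecializes hy' a₀ at hw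
        rw [← hw]
        exact Ideal.span_singleton_mul_right_unit (IsLocalization.map_units (Y.presheaf.stalk (f x')) w) b
      have hall : ∀ (x'' : X) (hx'' : x'' ⤳ x) (hy'' : f x'' ⤳ f x'), Ideal.span {X.presheaf.stalkSpecializes hx'' t} =
          Ideal.span {φ f (hy''.trans hy') a₀} := by
        intro x'' hx'' hy''
        have hne' : f x'' ≠ f x := fun e' => hne (Inseparable.eq (Specializes.antisymm hy' (e' ▸ hy'')))
        obtain ⟨c'', hc''⟩ := hP (f x'') (hgen _ (hy''.trans hy')) (hy''.trans hy') hne'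
        have hg := gd_generisation hY hη hσ (hc' x' rfl) hc'' hy'' rfl (hgen _ (hy''.trans hy'))
        obtain ⟨d, hdc, hdt⟩ := hb x'' hx'' hg (hgen _ (hy''.trans hy'))
        have hc0 : c' ≠ 0 := hg.1
        have hd : d = Y.presheaf.stalkSpecializes hy'' b := by
          refine toK_injective hY hη (hgen _ (hy''.trans hy')) (mul_right_cancel₀ hc0 (hdc.trans ?_))
          rw [← hbc]
          erw [TopCat.Presheaf.stalkSpecializes_comp_apply]
        rw [hdt, hd, φ_spec, ← φ_spec f hy' hy'']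
        exact (span_map_eq _ hspan).symm
      let C : Ideal (X.presheaf.stalk x) :=
        Submodule.comap (LinearMap.toSpanSingleton _ (X.presheaf.stalk x) (φ f h a₀)) (Ideal.span {t})
      have hmeet : ∃ s₀ ∈ p.primeCompl, φ f h s₀ ∈ C := by
        by_contra hne'
        push Not at hne'
        obtain ⟨q', hq', hCq', hdisj⟩ := Ideal.exists_le_prime_disjoint C (p.primeCompl.map (φ f h : Y.presheaf.stalk (f x) →* X.presheaf.stalk x))
          (Set.disjoint_left.2 fun r hr hr' => by obtain ⟨s₀, hs₀, rfl⟩ := hr'; exact hne' s₀ hs₀ hr)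
        obtain ⟨x'', hx'', hxq'⟩ := exists_generisation x q'
        have hy'' : f x'' ⤳ f x' := by
          refine specializes_of_comap_le (hx''.map f.continuous) hy' fun c hc => ?_
          by_contra hcp
          refine Set.disjoint_left.1 hdisj ?_ ⟨c, hcp, rfl⟩
          rw [SetLike.mem_coe, ← hxq', Ideal.mem_comap]
          show X.presheaf.stalkSpecializes hx'' (φ f h c) ∈ _
          rw [← φ_gen, φ]
          exact map_nonunit (f.stalkMap x'').hom _ hc
        have h1 : X.presheaf.stalkSpecializes hx'' (φ f h a₀) ∈ Ideal.span {X.presheaf.stalkSpecializes hx'' t} := by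
          rw [hall x'' hx'' hy'', ← φ_gen]
          exact Ideal.mem_span_singleton_self _
        letI := (X.presheaf.stalkSpecializes hx'').hom.toAlgebra
        haveI := S5090.isLocalization_stalkSpecializes hx''
        rw [← Set.image_singleton, ← Ideal.map_span] at h1
        obtain ⟨s, hs, hst⟩ := (IsLocalization.algebraMap_mem_map_algebraMap_iff
          ((maximalIdeal (X.presheaf.stalk x'')).comap (X.presheaf.stalkSpecializes hx'').hom).primeCompl
          (X.presheaf.stalk x'') (Ideal.span {t}) (φ f h a₀)).1 h1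
        exact hs (hxq'.symm ▸ hCq' hst)
      obtain ⟨s₀, hs₀, hsC⟩ := hmeet
      have ha₁ : s₀ * a₀ ∈ (Ideal.span {t}).comap (φ f h) := by
        rw [Ideal.mem_comap, map_mul]
        exact hsC
      have h3 : X.presheaf.stalkSpecializes hx t ∈ Ideal.span {X.presheaf.stalkSpecializes hx (φ f h (s₀ * a₀))} := by
        have h2 : IsUnit (X.presheaf.stalkSpecializes hx (φ f h s₀)) := by
          rw [← φ_gen, ← φ_spec f hy' (specializes_refl _)]
          exact (IsLocalization.map_units (Y.presheaf.stalk (f x')) (⟨s₀, hs₀⟩ : p.primeCompl)).map _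
        rw [map_mul, map_mul, mul_comm, Ideal.span_singleton_mul_right_unit h2, ← φ_gen, ← hall x' hx (specializes_refl _)]
        exact Ideal.mem_span_singleton_self _
      letI := (X.presheaf.stalkSpecializes hx).hom.toAlgebra
      haveI := S5090.isLocalization_stalkSpecializes hx
      rw [← Set.image_singleton, ← Ideal.map_span] at h3
      obtain ⟨s, hs, hst⟩ := (IsLocalization.algebraMap_mem_map_algebraMap_iff
        ((maximalIdeal (X.presheaf.stalk x')).comap (X.presheaf.stalkSpecializes hx).hom).primeCompl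
        (X.presheaf.stalk x') (Ideal.span {φ f h (s₀ * a₀)}) t).1 h3
      exact ⟨s, hxq ▸ hs, (Ideal.span_singleton_le_iff_mem _).2 (Ideal.mem_map_of_mem (φ f h) ha₁) hst⟩
    obtain ⟨c, -, hc⟩ := Gd.of_coeff hY hη hσ hxW hηy ha he hR (a₁ := a₁) ha₁
    exact ⟨c, hc⟩
  obtain ⟨x₀, e₀⟩ := f.surjective y
  obtain ⟨c, hc⟩ := hone x₀ e₀
  refine ⟨c, fun x e => ?_⟩
  obtain ⟨c₂, hc₂⟩ := hone x e
  have hdvd : ∀ (c₁ c₂ : Y.presheaf.stalk η) (x₁ x₂ : X), f x₁ = y → f x₂ = y → Gd f L η σ x₁ c₁ →
      Gd f L η σ x₂ c₂ → ∃ d, Y.presheaf.stalkSpecializes hηy d * c₁ = c₂ := by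
    intro c₁ c₂ x₁ x₂ e₁ e₂ h₁ h₂
    obtain ⟨p, q, hq0, hpq⟩ := exists_frac hY hη hηy (c₂ * ↑(isUnit_generic hY hη h₁.1).unit⁻¹)
    have hu := isUnit_generic hY hη h₁.1
    have hdvd : q ∣ p := by
      refine dvd_of_punctured hd (mem_nonZeroDivisors_of_ne_zero hq0) fun P hPp hPm => ?_
      haveI := hPp
      obtain ⟨y', hy', hyP⟩ := exists_generisation y P
      have hne : y' ≠ y := fun e' => by
        subst e'
        apply hPm
        rw [← hyP, TopCat.Presheaf.stalkSpecializes_refl]
        exact Ideal.comap_id _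
      have hη' := hgen y' hy'
      obtain ⟨c', hc'⟩ := hP y' hη' hy' hne
      obtain ⟨x₁', hx₁', e₁'⟩ := Flat.generalizingMap f (show y' ⤳ f x₁ from hy'.trans (specializes_of_eq e₁.symm))
      subst e₁'
      obtain ⟨d, hd⟩ : ∃ d, Y.presheaf.stalkSpecializes hη' d * c₁ = c₂ := by
        obtain ⟨d, -, hd⟩ := (h₁.spec hx₁').compare hY hη hσ
          (gd_generisation hY hη hσ h₂ hc' (hy'.trans (specializes_of_eq e₂.symm)) rfl hη') hη'
        exact ⟨d, hd⟩
      have h1 : Y.presheaf.stalkSpecializes hy' p ∈ Ideal.span {Y.presheaf.stalkSpecializes hy' q} := by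
        refine Ideal.mem_span_singleton.2 ⟨d, toK_injective hY hη hη' ?_⟩
        rw [map_mul]
        erw [TopCat.Presheaf.stalkSpecializes_comp_apply, TopCat.Presheaf.stalkSpecializes_comp_apply]
        rw [← hpq, ← hd, mul_assoc (Y.presheaf.stalkSpecializes hη' d), hu.mul_val_inv, mul_one, mul_comm]
      letI := (Y.presheaf.stalkSpecializes hy').hom.toAlgebra
      haveI := S5090.isLocalization_stalkSpecializes hy'
      rw [← Set.image_singleton, ← Ideal.map_span] at h1
      obtain ⟨s, hs, hst⟩ := (IsLocalization.algebraMap_mem_map_algebraMap_iff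
        ((maximalIdeal (Y.presheaf.stalk (f x₁'))).comap (Y.presheaf.stalkSpecializes hy').hom).primeCompl
        (Y.presheaf.stalk (f x₁')) (Ideal.span {q}) p).1 h1
      exact ⟨s, hyP ▸ hs, Ideal.mem_span_singleton.1 hst⟩
    obtain ⟨d, rfl⟩ := hdvd
    refine ⟨d, ?_⟩
    have h1 : c₂ * ↑hu.unit⁻¹ = Y.presheaf.stalkSpecializes hηy d := by
      refine mul_right_cancel₀ (fun h0 => hq0 (toK_injective hY hη hηy (h0.trans (map_zero _).symm))) ?_
      rw [hpq, map_mul, mul_comm]
    rw [← h1, mul_assoc, hu.val_inv_mul, mul_one]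
  obtain ⟨d, hd₁⟩ := hdvd c₂ c x x₀ e e₀ hc₂ hc
  obtain ⟨d', hd₂⟩ := hdvd c c₂ x₀ x e₀ e hc hc₂
  rw [← hd₁]
  refine hc₂.smul hY hη e hηy (IsUnit.of_mul_eq_one d' (toK_injective hY hη hηy (mul_right_cancel₀ hc.1 ?_)))
  rw [map_mul, map_one, one_mul, mul_assoc, hd₂, hd₁]

include hY hη hσ hL in
/-- Generating constants exist at every point specialising the generic one. -/
theorem exists_good [IsLocallyNoetherian Y] [Surjective f]
    (hfib : ∀ y : Y, ringKrullDim (Y.presheaf.stalk y) = 1 → IsIntegral (f.fiber y))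
    (y : Y) (hηy : η ⤳ y) : ∃ c, Good f L η σ y c := by
  suffices ∀ (n : ℕ∞) (y : Y), η ⤳ y → Order.coheight y = n → ∃ c, Good f L η σ y c from this _ y hηy rfl
  intro n
  induction n using WellFoundedLT.induction with
  | ind n ih =>
    intro y hηy hy
    haveI := (hY y).1
    haveI := (hY y).2
    have hfin : ∀ y' : Y, Order.coheight y' < ⊤ := fun y' => by
      have h4 : ringKrullDim (Y.presheaf.stalk y') < ⊤ := ringKrullDim_lt_top
      rw [ringKrullDim_stalk_eq_coheight] at h4
      exact WithBot.coe_lt_coe.1 h4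
    have hlt : ∀ y' : Y, y' ⤳ y → y' ≠ y → Order.coheight y' < Order.coheight y := fun y' h1 h2 =>
      Order.coheight_strictAnti (lt_of_le_not_ge h1 fun h3 => h2 (Inseparable.eq (Specializes.antisymm h1 h3))) (hfin y')
    have hP : ∀ y' : Y, η ⤳ y' → y' ⤳ y → y' ≠ y → ∃ c, Good f L η σ y' c := fun y' h0 h1 h2 =>
      ih _ (hy ▸ hlt y' h1 h2) y' h0 rfl
    rcases le_or_gt (2 : ℕ∞) (Order.coheight y) with h2 | h2
    · refine exists_good_two hY hη hσ hL hηy (SerreLib.two_le_depth_of_normal ?_) hP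
      rw [ringKrullDim_stalk_eq_coheight]
      exact_mod_cast (lt_of_lt_of_le (by norm_num : (1 : ℕ∞) < 2) h2)
    rcases eq_or_ne y η with rfl | hne
    · exact exists_good_generic hY hη hσ hL
    have h1 : Order.coheight y = 1 := by
      refine le_antisymm (Order.le_of_lt_succ (by simpa [← one_add_one_eq_two] using h2)) ?_
      exact Order.one_le_iff_pos.2 (lt_of_le_of_lt zero_le (hlt η hηy hne.symm))
    have hdim : ringKrullDim (Y.presheaf.stalk y) = 1 := by
      rw [ringKrullDim_stalk_eq_coheight, h1]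
      rfl
    haveI : IsDiscreteValuationRing (Y.presheaf.stalk y) := by
      obtain ⟨hF, hrad⟩ := ringKrullDim_eq_one_iff_of_isLocalRing_isDomain.1 hdim
      have htfae := (IsDiscreteValuationRing.TFAE (Y.presheaf.stalk y) hF).out 0 3
      refine htfae.2 ⟨inferInstance, maximalIdeal _,
        ⟨fun h => hF (IsLocalRing.isField_iff_maximalIdeal_eq.2 h), (maximalIdeal.isMaximal _).isPrime⟩, fun P ⟨hP0, hPp⟩ => ?_⟩
      obtain ⟨w, hwP, hw0⟩ := P.ne_bot_iff.1 hP0
      exact le_antisymm (IsLocalRing.le_maximalIdeal hPp.ne_top)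
        ((hrad w hw0).trans (hPp.radical_le_iff.2 ((Ideal.span_singleton_le_iff_mem P).2 hwP)))
    haveI := hfib y hdim
    refine exists_good_one hY hη hσ hL hηy fun z hz hzy => hη z ?_ |>.trans rfl
    have h0 : Order.coheight z = 0 := Order.lt_one_iff.1 (h1 ▸ hlt z hz hzy)
    haveI := (hY z).1
    obtain ⟨η', hη', hmax⟩ := exists_maximal z
    rw [maximal_unique hη hmax hηy (hη'.trans hz)]
    exact Order.coheight_eq_zero.1 h0 hη'

end Groth.Agent.DivDescLib
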